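import Cfsg.Agent.GenA.TwoLengthSharp.Pair
import Cfsg.Agent.GenA.TwoLength.Half

/-!
A faithful module in characteristic two on which no element of a Sylow `2`-subgroup of exponent `2 ^ f` has a
full block. Modulo the core of odd order the half powers lie in a normal `2`-group `T` of class two with
central squares, and multiplying a `2`-element by an element of `T` changes the half power by a central element,
by nothing for a central involution.
-/

set_option autoImplicit false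
set_option linter.style.haveILetI false

namespace Cfsg.Agent.GenA.TwoLengthSharp

open Cfsg Subgroup
open Module (End)
open Cfsg.Agent.PLocal.TheoremB (Normalizes)
open Cfsg.Agent.GenA.TwoLength
open scoped commutatorElement

universe u

/-- A normal `2`-group in the image of a normal subgroup lifts to the Sylow subgroup. -/
theorem exists_lift {H : Type*} [Group H] [Finite H] (P : Sylow 2 H) {M : Type*} [Group M] [Finite M]
    (π : H →* M) (N1 : Subgroup H) [N1.Normal] {U : Subgroup M} [U.Normal] (hU : IsPGroup 2 U)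
    (hle : U ≤ N1.map π) : ∀ z ∈ U, ∃ c ∈ (P : Subgroup H) ⊓ (N1 ⊓ U.comap π), π c = z := by
  haveI : Fact (Nat.Prime 2) := ⟨Nat.prime_two⟩
  set R := N1 ⊓ U.comap π with hR
  haveI : R.Normal := inferInstance
  set φ : R →* U := (π.comp R.subtype).codRestrict U fun r => r.2.2 with hφ
  have hφs : Function.Surjective φ := by
    rintro ⟨z, hz⟩
    obtain ⟨m, hm, rfl⟩ := hle hz
    exact ⟨⟨m, hm, hz⟩, rfl⟩
  obtain ⟨k, hk⟩ := hU.exists_card_eq
  set PR := (P : Subgroup H).subgroupOf R with hPR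
  have hodd : ¬ 2 ∣ PR.index :=
    Cores.sylow_subgroupOf_isSubnormal P (show R.Normal from inferInstance).isSubnormal
  have htop : PR.map φ = ⊤ := by
    refine index_eq_one.mp (Nat.eq_one_of_dvd_coprimes (a := 2 ^ k) (b := PR.index) ?_ ?_ (index_map_dvd _ hφs))
    · exact ((Nat.prime_two.coprime_iff_not_dvd).mpr hodd).pow_left k
    · exact hk ▸ index_dvd_card _
  intro z hz
  obtain ⟨c, hc, e⟩ := htop.ge (mem_top (⟨z, hz⟩ : U))
  exact ⟨c, ⟨mem_subgroupOf.mp hc, c.2⟩, congrArg Subtype.val e⟩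

variable {H : Type u} [Group H] [Finite H] [Group.IsSolvable H] {K : Type*} [Field K] [CharP K 2] [IsAlgClosed K]
  {V : Type*} [AddCommGroup V] [Module K V] [FiniteDimensional K V]

set_option maxHeartbeats 2000000 in
/-- The normal subgroup containing the half powers. -/
theorem exists_stable (hO : pCore 2 H = ⊥) (τ : H →* End K V) (hτ : Function.Injective τ) (P : Sylow 2 H)
    {f : ℕ} (hf : 2 ≤ f) (hexp : ∀ g ∈ (P : Subgroup H), g ^ 2 ^ f = 1)
    (hsum : ∀ g ∈ (P : Subgroup H), ∀ v : V, ∑ i ∈ Finset.range (2 ^ f), (τ g ^ i) v = 0) :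
    ∃ T : Subgroup (H ⧸ pPrimeCore 2 H), T.Normal ∧ T ≤ pCore 2 (H ⧸ pPrimeCore 2 H) ∧
      (∀ y ∈ (P : Subgroup H).map (QuotientGroup.mk' (pPrimeCore 2 H)), y ^ 2 ^ (f - 1) ∈ T) ∧
      (∀ w ∈ T, ∀ y ∈ (P : Subgroup H).map (QuotientGroup.mk' (pPrimeCore 2 H)),
        (w * y) ^ 2 ^ (f - 1) * y ^ 2 ^ (f - 1) ∈ T ⊓ centralizer (T : Set (H ⧸ pPrimeCore 2 H))) ∧
      ∀ w ∈ invCentre T, ∀ y ∈ (P : Subgroup H).map (QuotientGroup.mk' (pPrimeCore 2 H)),
        (w * y) ^ 2 ^ (f - 1) * y ^ 2 ^ (f - 1) = 1 := by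
  classical
  haveI h2f : Fact (Nat.Prime 2) := ⟨Nat.prime_two⟩
  have hqK : ∀ q : ℕ, q.Prime → q ≠ 2 → (q : K) ≠ 0 := fun q hq h2 h =>
    h2 ((Nat.prime_dvd_prime_iff_eq Nat.prime_two hq).mp ((CharP.cast_eq_zero_iff K 2 q).mp h)).symm
  -- the centralizer of the abelian normal subgroups of odd prime power order
  set Ab : Set H := {a | ∃ (A : Subgroup H) (q : ℕ), A.Normal ∧ q.Prime ∧ q ≠ 2 ∧ IsPGroup q A ∧
    (∀ b ∈ A, ∀ c ∈ A, Commute b c) ∧ a ∈ A} with hAb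
  set N1 := centralizer Ab with hN1
  haveI : N1.Normal := ⟨fun n hn g => mem_centralizer_iff.mpr fun a ⟨A, q, hA, h1, h2, h3, h4, ha⟩ => by
    have h := mem_centralizer_iff.mp hn (g⁻¹ * a * g) ⟨A, q, hA, h1, h2, h3, h4, by
      simpa using hA.conj_mem a ha g⁻¹⟩
    calc a * (g * n * g⁻¹) = g * (g⁻¹ * a * g * n) * g⁻¹ := by group
      _ = _ := by rw [h]; group⟩
  have hyN : ∀ x ∈ (P : Subgroup H), x ^ 2 ^ (f - 1) ∈ N1 := fun x hx =>
    mem_centralizer_iff.mpr fun a ⟨A, q, hA, hq, h2, hAq, hAc, ha⟩ => by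
      have := hτ (abelian_fix τ A x (show 1 ≤ f by omega) (hqK q hq h2) hAq (fun b hb => hA.conj_mem b hb x)
        (fun b hb c hc => (hAc b hb c hc).map τ) (hexp x hx) (hsum x hx) ha)
      exact (mul_inv_eq_iff_eq_mul.mp this).symm
  -- modulo the core of odd order
  set K0 := pPrimeCore 2 H with hK0
  haveI : K0.Normal := Cores.pPrimeCore_normal 2
  set π := QuotientGroup.mk' K0 with hπ
  have hπs := QuotientGroup.mk'_surjective K0
  have hinjP : ∀ a ∈ (P : Subgroup H), π a = 1 → a = 1 := fun a ha h => by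
    have h1 : a ∈ (P : Subgroup H) ⊓ K0 := ⟨ha, (QuotientGroup.eq_one_iff a).mp h⟩
    rwa [PLocal.Cores.inf_eq_bot_of_isPGroup_of_coprime P.isPGroup' PLocal.Cores.coprime_card_pPrimeCore,
      mem_bot] at h1
  have hinjC : ∀ a ∈ (P : Subgroup H), ∀ b ∈ (P : Subgroup H), Commute (π a) (π b) → Commute a b :=
    fun a ha b hb h => by
    refine commutatorElement_eq_one_iff_commute.mp (hinjP _ ?_ ?_)
    · exact mul_mem (mul_mem (mul_mem ha hb) (inv_mem ha)) (inv_mem hb)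
    · rw [map_commutatorElement, commutatorElement_eq_one_iff_commute]; exact h
  set Nb := N1.map π with hNb
  haveI hNbn : Nb.Normal := (inferInstance : N1.Normal).map π hπs
  haveI : (pCore 2 Nb).Characteristic := Cores.pCore_characteristic 2
  set B1 := (pCore 2 Nb).map Nb.subtype with hB1
  haveI hB1n : B1.Normal := by rw [hB1]; infer_instance
  have hB1N : B1 ≤ Nb := map_subtype_le _
  have hB12 : IsPGroup 2 B1 := (Cores.pCore_isPGroup 2).map _
  have hB1C : ∀ g ∈ Nb, g ∈ centralizer (B1 : Set (H ⧸ K0)) → g ∈ B1 := by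
    intro g hg hgc
    have hO' : pPrimeCore 2 Nb = ⊥ := by
      rw [← (pPrimeCore 2 Nb).map_eq_bot_iff_of_injective Nb.subtype_injective, ← le_bot_iff]
      exact (PLocal.Cores.map_subtype_pPrimeCore_le Nb).trans (Cores.pPrimeCore_quotient_self 2).le
    refine ⟨⟨g, hg⟩, PLocal.PSolvable.centralizer_pCore_le hO' ?_ (mem_centralizer_iff.mpr fun b hb => ?_), rfl⟩
    · exact PLocal.SolvableSeparable.isPSolvable_of_isSolvable 2 _
    · exact Subtype.ext (mem_centralizer_iff.mp hgc b (mem_map_of_mem _ hb))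
  obtain ⟨C0, hC0c, hC0Φ, hC0com, hC0C⟩ := Techniques.Critical.exists_critical hB12
  haveI := hC0c
  set Cb := C0.map B1.subtype with hCb
  haveI hCbn : Cb.Normal := by rw [hCb]; infer_instance
  have hCbB : Cb ≤ B1 := map_subtype_le _
  have hCb2 : IsPGroup 2 Cb := hB12.to_le hCbB
  have hCbC : ∀ g ∈ B1, g ∈ centralizer (Cb : Set (H ⧸ K0)) → g ∈ Cb := fun g hg hgc =>
    ⟨⟨g, hg⟩, hC0C (mem_centralizer_iff.mpr fun b hb =>
      Subtype.ext (mem_centralizer_iff.mp hgc b (mem_map_of_mem _ hb))), rfl⟩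
  set Zb := Cb ⊓ centralizer (Cb : Set (H ⧸ K0)) with hZb
  haveI : Zb.Normal := inferInstance
  have hcomC : ∀ a ∈ Cb, ∀ b ∈ Cb, ⁅a, b⁆ ∈ Zb := by
    rintro _ ⟨a, ha, rfl⟩ _ ⟨b, -, rfl⟩
    have h1 := hC0com (commutator_mem_commutator ha (mem_top b))
    rw [← map_commutatorElement]
    refine ⟨⟨_, h1.1, rfl⟩, mem_centralizer_iff.mpr ?_⟩
    rintro _ ⟨c, hc, rfl⟩
    exact congrArg Subtype.val (mem_centralizer_iff.mp h1.2 c hc)
  have hsqC : ∀ a ∈ Cb, a * a ∈ Zb := by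
    rintro _ ⟨a, ha, rfl⟩
    refine ⟨mul_mem (mem_map_of_mem _ ha) (mem_map_of_mem _ ha), mem_centralizer_iff.mpr ?_⟩
    have h1 : a ^ 2 ∈ centralizer (C0 : Set B1) := hC0Φ ⟨_,
      Solvable.Basics.pow_mem_frattini (hB12.to_subgroup C0) (⟨a, ha⟩ : C0), by simp⟩
    rintro _ ⟨c, hc, rfl⟩
    rw [← map_mul]
    exact congrArg Subtype.val (by simpa [sq] using mem_centralizer_iff.mp h1 c hc)
  -- the commutators of the half powers
  set C := (P : Subgroup H) ⊓ (N1 ⊓ Cb.comap π) with hC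
  have hπC : ∀ c ∈ C, π c ∈ Cb := fun c hc => hc.2.2
  have hCsurj := exists_lift P π N1 hCb2 (hCbB.trans hB1N)
  have hC2 : IsPGroup 2 C := P.isPGroup'.to_le inf_le_left
  have hxC : ∀ x ∈ (P : Subgroup H), Normalizes x C := fun x hx a ha =>
    ⟨(P : Subgroup H).mul_mem ((P : Subgroup H).mul_mem hx ha.1) ((P : Subgroup H).inv_mem hx),
      (show (N1 ⊓ Cb.comap π).Normal from inferInstance).conj_mem a ha.2 x⟩
  have hcen : ∀ a ∈ C, ∀ b ∈ C, ∀ c ∈ C, Commute ⁅a, b⁆ c := fun a ha b hb c hc =>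
    hinjC ⁅a, b⁆ (mul_mem (mul_mem (mul_mem ha.1 hb.1) (inv_mem ha.1)) (inv_mem hb.1)) c hc.1 (by
      rw [map_commutatorElement]
      exact (mem_centralizer_iff.mp (hcomC _ (hπC a ha) _ (hπC b hb)).2 _ (hπC c hc)).symm)
  have hsq : ∀ a ∈ C, ∀ c ∈ C, Commute (a * a) c := fun a ha c hc =>
    hinjC _ (mul_mem ha.1 ha.1) c hc.1 (by
      rw [map_mul]
      exact (mem_centralizer_iff.mp (hsqC _ (hπC a ha)).2 _ (hπC c hc)).symm)
  have hkey : ∀ (D : Subgroup H), IsPGroup 2 D → ∀ d ∈ D,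
      (∀ q : ℕ, q.Prime → q ≠ 2 → d ∈ centralizer (pCore q H : Set H)) → d = 1 :=
    fun D hD d hd h => eq_one_of_centralizes_odd hO (by
      obtain ⟨j, hj⟩ := hD ⟨d, hd⟩
      exact ⟨j, by simpa using congrArg Subtype.val hj⟩) h
  have hk : ∀ x ∈ (P : Subgroup H), ∀ q : ℕ, q.Prime → q ≠ 2 →
      (∀ u ∈ C, ∀ w ∈ C, ⁅x ^ 2 ^ (f - 1) * (u * x ^ 2 ^ (f - 1) * u⁻¹), w⁆ ∈ centralizer (pCore q H : Set H)) ∧
        ∀ z ∈ C, (∀ w ∈ C, Commute z w) → ⁅x ^ 2 ^ (f - 1), z⁆ ∈ centralizer (pCore q H : Set H) :=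
    fun x hx q hq h2 => by
    haveI := Fact.mk hq
    refine key (hq.odd_of_ne_two h2) (hqK q hq h2) τ hτ (pCore q H) (Cores.pCore_isPGroup q) x hf (hexp x hx)
      (hsum x hx) C hC2 (hxC x hx) hcen hsq fun A hA hAq hAc c hc => mem_centralizer_iff.mpr fun a ha =>
        mem_centralizer_iff.mp hc.2.1 a ⟨A, q, hA, hq, h2, hAq, hAc, ha⟩
  -- the stabilizer of the series
  set T := Nb ⊓ centralizer (Zb : Set (H ⧸ K0)) ⊓
    (centralizer ((Cb.map (QuotientGroup.mk' Zb)) : Set ((H ⧸ K0) ⧸ Zb))).comap (QuotientGroup.mk' Zb) with hT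
  haveI : (Cb.map (QuotientGroup.mk' Zb)).Normal := hCbn.map _ (QuotientGroup.mk'_surjective Zb)
  haveI hTn : T.Normal := inferInstance
  have hhalfT : ∀ x ∈ (P : Subgroup H), π (x ^ 2 ^ (f - 1)) ∈ T := by
    intro x hx
    set y := x ^ 2 ^ (f - 1) with hy
    have hy2 : y * y = 1 := by
      rw [hy, ← pow_add, ← two_mul, ← pow_succ', Nat.sub_add_cancel (show 1 ≤ f by omega), hexp x hx]
    have hyC : ∀ a ∈ C, y * a * y⁻¹ ∈ C := (hxC x hx).pow _
    have hyu : ∀ u ∈ C, y * (u * y * u⁻¹) ∈ C := fun u hu => by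
      have h := mul_mem (hyC u hu) (inv_mem hu)
      rwa [show y⁻¹ = y from (eq_inv_of_mul_eq_one_left hy2).symm, mul_assoc, mul_assoc, ← mul_assoc u] at h
    have hA : ∀ u ∈ C, ∀ w ∈ C, Commute (y * (u * y * u⁻¹)) w := fun u hu w hw =>
      commutatorElement_eq_one_iff_commute.mp (hkey C hC2 _
        (mul_mem (mul_mem (mul_mem (hyu u hu) hw) (inv_mem (hyu u hu))) (inv_mem hw))
        fun q hq h2 => (hk x hx q hq h2).1 u hu w hw)
    have hB : ∀ z ∈ C, (∀ w ∈ C, Commute z w) → Commute y z := fun z hz hzc =>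
      commutatorElement_eq_one_iff_commute.mp (hkey C hC2 _
        (mul_mem (hyC z hz) (inv_mem hz))
        fun q hq h2 => (hk x hx q hq h2).2 z hz hzc)
    refine ⟨⟨mem_map_of_mem π (hyN x hx), mem_centralizer_iff.mpr fun z hz => ?_⟩, mem_centralizer_iff.mpr ?_⟩
    · obtain ⟨c, hc, rfl⟩ := hCsurj z hz.1
      refine (((hB c hc fun w hw => hinjC c hc.1 w hw.1 ?_).map π).eq).symm
      exact (mem_centralizer_iff.mp hz.2 _ (hπC w hw)).symm
    · rintro _ ⟨z, hz, rfl⟩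
      obtain ⟨u, hu, rfl⟩ := hCsurj z hz
      refine (commutatorElement_eq_one_iff_commute.mp ?_).symm.eq
      rw [← map_commutatorElement, QuotientGroup.mk'_apply, QuotientGroup.eq_one_iff]
      have e : ⁅π y, π u⁆ = π (y * (u * y * u⁻¹)) := by
        rw [← map_commutatorElement, commutatorElement_def,
          show y⁻¹ = y from (eq_inv_of_mul_eq_one_left hy2).symm]
        simp only [mul_assoc]
      rw [e]
      refine ⟨hπC _ (hyu u hu), mem_centralizer_iff.mpr fun w hw => ?_⟩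
      obtain ⟨w, hw', rfl⟩ := hCsurj w hw
      exact ((hA u hu w hw').map π).eq.symm
  have hT2 : IsPGroup 2 T := IsPGroup.iff_orderOf.mpr fun g => by
    obtain ⟨k, m, hm, hkm⟩ := Nat.exists_eq_pow_mul_and_not_dvd (orderOf_pos g).ne' 2 (by omega)
    refine ⟨k, ?_⟩
    set s : H ⧸ K0 := ((g ^ 2 ^ k : T) : H ⧸ K0) with hs
    have hsT : s ∈ T := (g ^ 2 ^ k : T).2
    have hsm : orderOf s = m := by
      rw [hs, Subgroup.orderOf_coe, orderOf_pow_of_dvd (pow_ne_zero _ two_ne_zero) (hkm ▸ dvd_mul_right _ _), hkm,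
        Nat.mul_div_cancel_left _ (Nat.pow_pos (by omega))]
    set E := zpowers s with hE
    have hEodd : (Nat.card E).Coprime 2 := by
      rw [hE, Nat.card_zpowers, hsm]
      exact (Nat.prime_two.coprime_iff_not_dvd.mpr hm).symm
    have hcop : ∀ U : Subgroup (H ⧸ K0), IsPGroup 2 U → (Nat.card E).Coprime (Nat.card U) := fun U hU => by
      obtain ⟨j, hj⟩ := hU.exists_card_eq
      rw [hj]; exact hEodd.pow_right j
    have hET : E ≤ T := zpowers_le.mpr hsT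
    have hECb : E ≤ centralizer (Cb : Set (H ⧸ K0)) := by
      refine Coprime.le_centralizer_of_series le_normalizer_of_normal (hcop Cb hCb2)
        (Or.inl (Coprime.isSolvable_of_isMulCommutative E)) (N := Zb)
        (hET.trans (inf_le_left.trans inf_le_right)) (commutator_le.mpr fun a ha e he => ?_)
      rw [← QuotientGroup.eq_one_iff, ← QuotientGroup.mk'_apply, map_commutatorElement,
        commutatorElement_eq_one_iff_commute]
      exact mem_centralizer_iff.mp (hET he).2 _ (mem_map_of_mem _ ha)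
    have hEB : E ≤ centralizer (B1 : Set (H ⧸ K0)) := by
      refine Coprime.le_centralizer_of_pxq (p := 2) (P := Cb) hCb2 hEodd hB12 (le_centralizer_iff.mp hECb)
        le_normalizer_of_normal le_normalizer_of_normal ?_
      rintro a ⟨haB, haC⟩
      exact le_centralizer_iff.mp hECb (hCbC a haB haC)
    have hsB := hB1C s (hsT.1.1) (hEB (mem_zpowers s))
    have hs1 : s = 1 := by
      obtain ⟨j, hj⟩ := hB12 ⟨s, hsB⟩
      have h1 : orderOf s ∣ 2 ^ j := orderOf_dvd_of_pow_eq_one (by simpa using congrArg Subtype.val hj)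
      rw [← orderOf_eq_one_iff, hsm]
      exact Nat.eq_one_of_dvd_coprimes ((Nat.prime_two.coprime_iff_not_dvd.mpr hm).pow_left j) (hsm ▸ h1) dvd_rfl
    rw [hkm]
    have : m = 1 := by rw [← hsm, hs1, orderOf_one]
    rw [this, mul_one]
  have hTB : T ≤ B1 := fun g hg => by
    have hgN : g ∈ Nb := hg.1.1
    refine ⟨⟨g, hgN⟩, ?_, rfl⟩
    haveI : (T.subgroupOf Nb).Normal := Normal.subgroupOf hTn Nb
    exact Cores.le_pCore (hT2.comap_subtype) (show (⟨g, hgN⟩ : Nb) ∈ T.subgroupOf Nb from hg)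
  have hTR : T ≤ pCore 2 (H ⧸ K0) := Cores.le_pCore hT2
  -- class two with central squares
  have hZT : ∀ z ∈ Zb, ∀ t ∈ T, Commute z t := fun z hz t ht => mem_centralizer_iff.mp ht.1.2 z hz
  have hact : ∀ t ∈ T, ∀ c ∈ Cb, ⁅t, c⁆ ∈ Zb := fun t ht c hc => by
    rw [← QuotientGroup.eq_one_iff, ← QuotientGroup.mk'_apply, map_commutatorElement,
      commutatorElement_eq_one_iff_commute]
    exact (mem_centralizer_iff.mp ht.2 _ (mem_map_of_mem _ hc)).symm
  have hconj : ∀ t ∈ T, ∀ c ∈ Cb, t * c * t⁻¹ = ⁅t, c⁆ * c := fun t _ c _ => by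
    rw [commutatorElement_def]; group
  have hcomp : ∀ s ∈ T, ∀ t ∈ T, ∀ c ∈ Cb, s * t * c * (s * t)⁻¹ = ⁅t, c⁆ * ⁅s, c⁆ * c := fun s hs t ht c hc => by
    rw [show s * t * c * (s * t)⁻¹ = s * (t * c * t⁻¹) * s⁻¹ by group, hconj t ht c hc,
      show s * (⁅t, c⁆ * c) * s⁻¹ = s * ⁅t, c⁆ * s⁻¹ * (s * c * s⁻¹) by group, hconj s hs c hc,
      ← (hZT _ (hact t ht c hc) s hs).eq, mul_inv_cancel_right, mul_assoc]
  have hZz : ∀ z ∈ Zb, ∀ z' ∈ Zb, Commute z z' := fun z hz z' hz' =>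
    (mem_centralizer_iff.mp hz.2 z' hz'.1).symm
  have hfix : ∀ g ∈ T, (∀ c ∈ Cb, g * c * g⁻¹ = c) → g ∈ Zb := fun g hg h => by
    have hgc : g ∈ centralizer (Cb : Set (H ⧸ K0)) :=
      mem_centralizer_iff.mpr fun c hc => (mul_inv_eq_iff_eq_mul.mp (h c hc)).symm
    exact ⟨hCbC g (hTB hg) hgc, hgc⟩
  have hTcom : ∀ s ∈ T, ∀ t ∈ T, ⁅s, t⁆ ∈ Zb := fun s hs t ht => by
    refine hfix _ (mul_mem (mul_mem (mul_mem hs ht) (inv_mem hs)) (inv_mem ht)) fun c hc => ?_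
    have hc' : (t * s)⁻¹ * c * (t * s) ∈ Cb := by simpa using hCbn.conj_mem c hc (t * s)⁻¹
    rw [show ⁅s, t⁆ * c * ⁅s, t⁆⁻¹ = s * t * ((t * s)⁻¹ * c * (t * s)) * (s * t)⁻¹ by
        rw [commutatorElement_def]; group, hcomp s hs t ht _ hc',
      (hZz _ (hact t ht _ hc') _ (hact s hs _ hc')).eq, ← hcomp t ht s hs _ hc']
    group
  have hTsq : ∀ t ∈ T, t * t ∈ Zb := fun t ht => by
    refine hfix _ (mul_mem ht ht) fun c hc => ?_
    have h2 : ⁅t, c⁆ * ⁅t, c⁆ * (c * c) = c * c := by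
      have h3 : Commute (⁅t, c⁆) c := (mem_centralizer_iff.mp (hact t ht c hc).2 c hc).symm
      calc ⁅t, c⁆ * ⁅t, c⁆ * (c * c) = ⁅t, c⁆ * (⁅t, c⁆ * c) * c := by group
        _ = ⁅t, c⁆ * (c * ⁅t, c⁆) * c := by rw [h3.eq]
        _ = t * c * t⁻¹ * (t * c * t⁻¹) := by rw [hconj t ht c hc]; group
        _ = t * (c * c) * t⁻¹ := by group
        _ = c * c := by rw [← (hZT _ (hsqC c hc) t ht).eq, mul_inv_cancel_right]
    rw [hcomp t ht t ht c hc, mul_eq_right.mp h2, one_mul]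
  -- the class two group in the Sylow subgroup
  set D := (P : Subgroup H) ⊓ (N1 ⊓ T.comap π) with hD
  have hDsurj := exists_lift P π N1 hT2 (fun g hg => hg.1.1)
  have hπD : ∀ c ∈ D, π c ∈ T := fun c hc => hc.2.2
  have hD2 : IsPGroup 2 D := P.isPGroup'.to_le inf_le_left
  have hxD : ∀ x ∈ (P : Subgroup H), Normalizes x D := fun x hx a ha =>
    ⟨(P : Subgroup H).mul_mem ((P : Subgroup H).mul_mem hx ha.1) ((P : Subgroup H).inv_mem hx),
      (show (N1 ⊓ T.comap π).Normal from inferInstance).conj_mem a ha.2 x⟩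
  have hDcen : ∀ a ∈ D, ∀ b ∈ D, ∀ c ∈ D, Commute ⁅a, b⁆ c := fun a ha b hb c hc =>
    hinjC ⁅a, b⁆ (mul_mem (mul_mem (mul_mem ha.1 hb.1) (inv_mem ha.1)) (inv_mem hb.1)) c hc.1 (by
      rw [map_commutatorElement]
      exact hZT _ (hTcom _ (hπD a ha) _ (hπD b hb)) _ (hπD c hc))
  have hDsq : ∀ a ∈ D, ∀ c ∈ D, Commute (a * a) c := fun a ha c hc =>
    hinjC _ (mul_mem ha.1 ha.1) c hc.1 (by
      rw [map_mul]; exact hZT _ (hTsq _ (hπD a ha)) _ (hπD c hc))
  have hhalfD : ∀ x ∈ (P : Subgroup H), x ^ 2 ^ (f - 1) ∈ D := fun x hx =>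
    ⟨pow_mem hx _, hyN x hx, hhalfT x hx⟩
  have hpair : ∀ x ∈ (P : Subgroup H), ∀ w ∈ D,
      (∀ c ∈ D, Commute ((w * x) ^ 2 ^ (f - 1) * x ^ 2 ^ (f - 1)) c) ∧
        (w ∈ invCentre D → (w * x) ^ 2 ^ (f - 1) * x ^ 2 ^ (f - 1) = 1) := by
    intro x hx w hw
    have hwx : w * x ∈ (P : Subgroup H) := mul_mem hw.1 hx
    have hdx := mul_mem (hhalfD _ hwx) (hhalfD x hx)
    have h : ∀ q : ℕ, q.Prime → q ≠ 2 → _ := fun q hq h2 => by
      haveI := Fact.mk hq
      exact pair_key τ hτ (hq.odd_of_ne_two h2) (hqK q hq h2) (pCore q H) (Cores.pCore_isPGroup q) hf D hD2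
        (fun A hA hAq hAc c hc => mem_centralizer_iff.mpr fun a ha =>
          mem_centralizer_iff.mp hc.2.1 a ⟨A, q, hA, hq, h2, hAq, hAc, ha⟩)
        hDcen hDsq (hxD x hx) (fun d hd => ⟨hexp _ (mul_mem hd.1 hx), hsum _ (mul_mem hd.1 hx)⟩)
        (fun d hd => hhalfD _ (mul_mem hd.1 hx)) hw
    exact ⟨fun c hc => commutatorElement_eq_one_iff_commute.mp (hkey D hD2 _
        (mul_mem (mul_mem (mul_mem hdx hc) (inv_mem hdx)) (inv_mem hc)) fun q hq h2 => (h q hq h2).1 c hc),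
      fun hwE => hkey D hD2 _ hdx fun q hq h2 => (h q hq h2).2 hwE⟩
  refine ⟨T, hTn, hTR, ?_, ?_, ?_⟩
  · rintro _ ⟨x, hx, rfl⟩
    rw [← map_pow]; exact hhalfT x hx
  · rintro w hw _ ⟨x, hx, rfl⟩
    obtain ⟨w, hwD, rfl⟩ := hDsurj w hw
    rw [← map_mul, ← map_pow, ← map_pow, ← map_mul]
    refine ⟨hπD _ (mul_mem (hhalfD _ (mul_mem hwD.1 hx)) (hhalfD x hx)), mem_centralizer_iff.mpr fun t ht => ?_⟩
    obtain ⟨c, hc, rfl⟩ := hDsurj t ht
    exact (((hpair x hx w hwD).1 c hc).map π).eq.symm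
  · rintro w ⟨hw, hwc, hw2⟩ _ ⟨x, hx, rfl⟩
    obtain ⟨w, hwD, rfl⟩ := hDsurj w hw
    rw [← map_mul, ← map_pow, ← map_pow, ← map_mul,
      (hpair x hx w hwD).2 ⟨hwD, fun c hc => hinjC w hwD.1 c hc.1 (hwc _ (hπD c hc)),
        hinjP _ (mul_mem hwD.1 hwD.1) (by rw [map_mul]; exact hw2)⟩, map_one]

end Cfsg.Agent.GenA.TwoLengthSharp
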