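import Cfsg.Agent.GenA.TwoLength.Key

/-!
Pairings on a critical subgroup of a normal `q`-group: the frame of isometries, and an element centralizing
the `q`-group as soon as it is trivial modulo every radical.
-/

set_option autoImplicit false
set_option linter.style.haveILetI false
set_option linter.unusedSectionVars false

namespace Cfsg.Agent.GenA.TwoLengthSharp

open Module (End)
open Cfsg.Agent.PLocal.TheoremB (Normalizes)
open Cfsg.Agent.GenA.TwoLength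
open Cfsg.Agent.GenA.ShultGross
open Cfsg.Agent.GenA.ShultGross.Two hiding orbit stage_one abelian_fix lower
open scoped commutatorElement

universe u

variable {K : Type*} [Field K] [CharP K 2] [IsAlgClosed K] {V : Type*} [AddCommGroup V] [Module K V]
  [FiniteDimensional K V]
variable {Γ : Type u} [Group Γ] [Finite Γ]

/-- Order dividing `2 ^ n` and no full block. -/
def NoBlock (ρ : Γ →* End K V) (n : ℕ) (y : Γ) : Prop :=
  y ^ 2 ^ n = 1 ∧ ∀ v : V, ∑ i ∈ Finset.range (2 ^ n), (ρ y ^ i) v = 0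

/-- The half powers act as reflections, and their roots preserve the pairing unless they act trivially. -/
def GoodFrame {A : Type u} [CommGroup A] [Finite A] (F : Form A K) (q : ℕ) (ρ : Γ →* End K V) (Cq : Subgroup Γ)
    (lam : Γ → Γ → K) (φ : presGroup Cq lam →* MulAut A) (n : ℕ) : Prop :=
  ∀ y : Γ, NoBlock ρ n y → ∀ hy : y ^ 2 ^ (n - 1) ∈ presGroup Cq lam,
    Refl F q (φ ⟨_, hy⟩) ∧ (φ ⟨_, hy⟩ ≠ 1 → y ^ 2 ^ (n - 2) ∈ presGroup Cq lam)

set_option maxHeartbeats 1000000 in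
/-- The frame of one pairing. -/
theorem frame {q : ℕ} [hqf : Fact q.Prime] (hqo : Odd q) (hqK : (q : K) ≠ 0) (ρ : Γ →* End K V)
    {Cq : Subgroup Γ} [hCqn : Cq.Normal] (hCqq : IsPGroup q Cq) {lam : Γ → Γ → K} (h : Pairing ρ Cq lam)
    (hcomR0 : ∀ a ∈ Cq, ∀ c ∈ Cq, ⁅a, c⁆ ∈ radSub h) (hpowR : ∀ a ∈ Cq, a ^ q ∈ radSub h) {n : ℕ} (hn : 2 ≤ n)
    {d : Γ} (hd : d ∈ presGroup Cq lam)
    (H : ∀ {A : Type u} [CommGroup A] [Finite A] (F : Form A K), (∀ a : A, a ^ q = 1) →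
      ∀ φ : presGroup Cq lam →* MulAut A, (∀ γ, φ γ ∈ F.isom) → GoodFrame F q ρ Cq lam φ n → φ ⟨d, hd⟩ = 1) :
    ∀ a ∈ Cq, a⁻¹ * (d * a * d⁻¹) ∈ radSub h := by
  classical
  set Γ1 := presGroup Cq lam with hΓ1
  -- the quotient
  set R := (radSub h).subgroupOf Cq with hR
  have hRmem : ∀ a : Cq, a ∈ R ↔ (a : Γ) ∈ radSub h := fun a => Subgroup.mem_subgroupOf
  have hcomR : ∀ a c : Cq, a⁻¹ * c⁻¹ * (a * c) ∈ R := fun a c => (hRmem _).mpr ((by
    have h1 := hcomR0 _ (inv_mem a.2) _ (inv_mem c.2)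
    simp only [commutatorElement_def, inv_inv] at h1
    simpa [mul_assoc] using h1))
  haveI : R.Normal := ⟨fun a ha g => by
    have h1 := hcomR g⁻¹ a⁻¹
    rw [inv_inv, inv_inv] at h1
    have h2 : g * a * (g⁻¹ * a⁻¹) ∈ R := h1
    have h3 := mul_mem h2 ha
    rwa [mul_assoc (g * a), mul_assoc g⁻¹, inv_mul_cancel, mul_one] at h3⟩
  letI : CommGroup (Cq ⧸ R) := { (inferInstance : Group (Cq ⧸ R)) with
    mul_comm := fun a c => by
      obtain ⟨a, rfl⟩ := QuotientGroup.mk'_surjective R a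
      obtain ⟨c, rfl⟩ := QuotientGroup.mk'_surjective R c
      rw [← map_mul, ← map_mul]
      refine QuotientGroup.eq.mpr ?_
      rw [show (a * c)⁻¹ * (c * a) = c⁻¹ * a⁻¹ * (c * a) by group]
      exact hcomR c a }
  set π := QuotientGroup.mk' R with hπ
  have hexp : ∀ a : Cq ⧸ R, a ^ q = 1 := fun a => by
    obtain ⟨a, rfl⟩ := QuotientGroup.mk'_surjective R a
    rw [← map_pow]
    exact (QuotientGroup.eq_one_iff _).mpr ((hRmem _).mpr (hpowR _ a.2))
  obtain ⟨φ, hφ⟩ : ∃ φ : Γ1 →* MulAut (Cq ⧸ R),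
      ∀ (γ : Γ1) (a : Cq), φ γ (π a) = π (MulAut.conjNormal (γ : Γ) a) := by
    refine ⟨MonoidHom.mk' (fun γ => QuotientGroup.congr R R (MulAut.conjNormal (γ : Γ)) (by
      ext a
      constructor
      · rintro ⟨c, hc, rfl⟩
        exact (hRmem _).mpr (γ.2.conj_radSub ((hRmem _).mp hc))
      · intro ha
        refine ⟨(MulAut.conjNormal (γ : Γ)).symm a, (hRmem _).mpr ?_, (MulAut.conjNormal (γ : Γ)).apply_symm_apply a⟩
        have h1 := Preserves.conj_radSub (γ⁻¹ : Γ1).2 ((hRmem _).mp ha)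
        rw [MulAut.conjNormal_symm_apply]
        simpa using h1)) fun a c => MulEquiv.ext fun z => by
      obtain ⟨z, rfl⟩ := QuotientGroup.mk'_surjective R z
      show QuotientGroup.mk' R (MulAut.conjNormal ((a * c : Γ1) : Γ) z) =
        QuotientGroup.mk' R (MulAut.conjNormal (a : Γ) (MulAut.conjNormal (c : Γ) z))
      rw [Subgroup.coe_mul, map_mul]; rfl, fun γ a => rfl⟩
  -- the form
  have hresp : ∀ a a' c c' : Cq, a⁻¹ * a' ∈ R → c⁻¹ * c' ∈ R → lam a c = lam a' c' := by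
    intro a a' c c' ha hc
    have e1 := not_mem_rad_of_twist (h := h) a.2 a'.2 (show (a : Γ)⁻¹ * a' ∈ radSub h from (hRmem _).mp ha)
    have e2 := not_mem_rad_of_twist (h := h) c.2 c'.2 (show (c : Γ)⁻¹ * c' ∈ radSub h from (hRmem _).mp hc)
    rw [e1 _ c'.2]
    have s1 := h.swap a.2 c.2
    have s2 := h.swap a.2 c'.2
    rw [e2 _ a.2] at s2
    exact mul_right_cancel₀ (h.ne_zero c.2 a.2) (s1.trans s2.symm)
  obtain ⟨F, hF⟩ : ∃ F : Form (Cq ⧸ R) K, ∀ a c : Cq, F.lam (π a) (π c) = lam (a : Γ) c := by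
    refine ⟨{
      lam := fun A B => Quotient.liftOn₂' A B (fun a c => lam (a : Γ) c)
        fun a c a' c' ha hc => hresp a a' c c' (QuotientGroup.leftRel_apply.mp ha)
          (QuotientGroup.leftRel_apply.mp hc)
      mul_left := fun A B D => by
        obtain ⟨a, rfl⟩ := QuotientGroup.mk'_surjective R A
        obtain ⟨c, rfl⟩ := QuotientGroup.mk'_surjective R B
        obtain ⟨e, rfl⟩ := QuotientGroup.mk'_surjective R D
        exact h.mul_left a.2 c.2 e.2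
      mul_right := fun A B D => by
        obtain ⟨a, rfl⟩ := QuotientGroup.mk'_surjective R A
        obtain ⟨c, rfl⟩ := QuotientGroup.mk'_surjective R B
        obtain ⟨e, rfl⟩ := QuotientGroup.mk'_surjective R D
        exact h.mul_right a.2 c.2 e.2
      alt := fun A => by
        obtain ⟨a, rfl⟩ := QuotientGroup.mk'_surjective R A
        exact h.sq_eq_one hqo (hCqq) a.2 a.2 (h.swap a.2 a.2)
      sq := fun A B e => by
        obtain ⟨a, rfl⟩ := QuotientGroup.mk'_surjective R A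
        obtain ⟨c, rfl⟩ := QuotientGroup.mk'_surjective R B
        exact h.sq_eq_one hqo (hCqq) a.2 c.2 e
      nondeg := fun A e => by
        obtain ⟨a, rfl⟩ := QuotientGroup.mk'_surjective R A
        exact (QuotientGroup.eq_one_iff a).mpr ((hRmem a).mpr ⟨a.2, fun c hc => e (π ⟨c, hc⟩)⟩) },
      fun a c => rfl⟩
  have hisom : ∀ γ : Γ1, φ γ ∈ F.isom := fun γ A B => by
    obtain ⟨a, rfl⟩ := QuotientGroup.mk'_surjective R A
    obtain ⟨c, rfl⟩ := QuotientGroup.mk'_surjective R B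
    rw [hφ, hφ, hF, hF, MulAut.conjNormal_apply, MulAut.conjNormal_apply]
    exact γ.2.2 a a.2 c c.2
  have hgood : GoodFrame F q ρ Cq lam φ n := by
    intro y hy hyΓ
    set t := y ^ 2 ^ (n - 1) with ht
    have ht2 : t * t = 1 := by
      rw [ht, ← pow_add, ← two_mul, ← pow_succ', Nat.sub_add_cancel (by omega : 1 ≤ n), hy.1]
    have hxCq : Normalizes y Cq := fun a ha => hCqn.conj_mem a ha y
    by_cases hle : antiSub h t (hxCq.pow _) ≤ radSub h
    · have htriv : φ ⟨t, hyΓ⟩ = 1 := MulEquiv.ext fun c => by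
        obtain ⟨c, rfl⟩ := QuotientGroup.mk'_surjective R c
        rw [MulAut.one_apply, hφ]
        refine (QuotientGroup.eq.mpr ((hRmem _).mpr ?_)).symm
        have h1 := hle (comm_mem_anti (h := h) (ht := hxCq.pow _) (hyΓ) ht2 c.2)
        rw [Subgroup.coe_mul, Subgroup.coe_inv, MulAut.conjNormal_apply]
        exact h1
      rw [htriv]
      refine ⟨⟨one_mem _, one_mul 1, ?_⟩, fun h1 => absurd rfl h1⟩
      rw [show neg (1 : MulAut (Cq ⧸ R)) = ⊥ from (Subgroup.eq_bot_iff_forall _).mpr fun a ha =>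
        eq_one_of_inv hqo hexp ha, Subgroup.card_bot]
      exact Nat.one_le_iff_ne_zero.mpr (mul_ne_zero hqf.out.ne_zero hqf.out.ne_zero)
    obtain ⟨k, hkn, hqP, hidx, hkpres⟩ := lower hqo hqK (hCqq) hxCq hy.1 (show 1 ≤ n by omega) hy.2 h hle
    have hk2 : k ≤ n - 2 := by
      by_contra hk2
      rw [show n - k = 1 by omega, pow_one] at hqP
      have := hqf.out.two_le
      omega
    refine ⟨⟨hisom _, by rw [← map_mul, show (⟨t, hyΓ⟩ : Γ1) * ⟨t, hyΓ⟩ = 1 from Subtype.ext ht2, map_one], ?_⟩,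
      fun _ => hkpres _ hk2⟩
    have hle2 : neg (φ ⟨t, hyΓ⟩) ≤ ((antiSub h t (hxCq.pow _)).subgroupOf Cq).map π := by
      intro A hA
      obtain ⟨a, rfl⟩ := QuotientGroup.mk'_surjective R A
      refine ⟨a, ⟨a.2, fun c hc => ?_⟩, rfl⟩
      have h1 : π (MulAut.conjNormal t a) = π a⁻¹ := by rw [map_inv, ← hφ ⟨t, hyΓ⟩ a]; exact hA
      have h2 := hresp (MulAut.conjNormal t a) a⁻¹ ⟨c, hc⟩ ⟨c, hc⟩ (QuotientGroup.eq.mp h1) (by simp)
      rw [MulAut.conjNormal_apply] at h2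
      show lam (t * (a : Γ) * t⁻¹) c * lam (a : Γ) c = 1
      rw [h2, Subgroup.coe_inv]
      exact h.inv_left a.2 hc
    refine (Subgroup.card_le_of_le hle2).trans (le_of_eq ?_)
    rw [← Subgroup.relIndex_ker, hπ, QuotientGroup.ker_mk', hR, Subgroup.relIndex_subgroupOf
      (fun g (hg : g ∈ antiSub h t (hxCq.pow _)) => hg.1), hidx, sq]
  intro a ha
  have h1 := DFunLike.congr_fun (H F hexp φ hisom hgood) (π ⟨a, ha⟩)
  rw [hφ, MulAut.one_apply] at h1
  have h2 := (hRmem _).mp (QuotientGroup.eq.mp h1.symm)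
  simpa [MulAut.conjNormal_apply] using h2

set_option maxHeartbeats 1000000 in
/-- An element of a `2`-group centralizing the abelian normal `q`-subgroups and trivial modulo every radical
centralizes the `q`-group. -/
theorem centralizes_of_pairings {q : ℕ} [hqf : Fact q.Prime] (hqo : Odd q) (hqK : (q : K) ≠ 0)
    (ρ : Γ →* End K V) (hinj : Function.Injective ρ) (Q : Subgroup Γ) [Q.Normal] (hQ : IsPGroup q Q)
    (C : Subgroup Γ) (hC2 : IsPGroup 2 C)
    (hCA : ∀ A : Subgroup Γ, A.Normal → IsPGroup q A → (∀ a ∈ A, ∀ b ∈ A, Commute a b) →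
      C ≤ Subgroup.centralizer (A : Set Γ)) {d : Γ} (hd : d ∈ C)
    (hall : ∀ (Cq : Subgroup Γ) [Cq.Normal], IsPGroup q Cq → ∀ (lam : Γ → Γ → K) (h : Pairing ρ Cq lam),
      (∀ a ∈ Cq, ∀ c ∈ Cq, ⁅a, c⁆ ∈ radSub h) → (∀ a ∈ Cq, a ^ q ∈ radSub h) →
      (∀ g ∈ C, Preserves Cq lam g) → ∀ a ∈ Cq, a⁻¹ * (d * a * d⁻¹) ∈ radSub h) :
    d ∈ Subgroup.centralizer (Q : Set Γ) := by
  classical
  obtain ⟨C0, hC0c, hC0Φ, hC0com, hC0C⟩ := Techniques.Critical.exists_critical hQ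
  haveI := hC0c
  set Cq : Subgroup Γ := C0.map Q.subtype with hCq
  haveI hCqn : Cq.Normal := by rw [hCq]; infer_instance
  have hCqQ : Cq ≤ Q := Subgroup.map_subtype_le _
  have hCqq : IsPGroup q Cq := hQ.to_le hCqQ
  have hCmem : ∀ {a : Γ} (ha : a ∈ Q), a ∈ Cq ↔ (⟨a, ha⟩ : Q) ∈ C0 := fun {a} ha => by
    refine ⟨fun ⟨b, hb, e⟩ => ?_, fun h => ⟨_, h, rfl⟩⟩
    rwa [show (⟨a, ha⟩ : Q) = b from Subtype.ext e.symm]
  have hcent : ∀ {a : Q}, a ∈ Subgroup.centralizer (C0 : Set Q) → (a : Γ) ∈ Subgroup.centralizer (Cq : Set Γ) := by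
    intro a ha
    refine Subgroup.mem_centralizer_iff.mpr ?_
    rintro _ ⟨b, hb, rfl⟩
    exact congrArg Subtype.val (Subgroup.mem_centralizer_iff.mp ha b hb)
  set Z : Subgroup Γ := Cq ⊓ Subgroup.centralizer (Cq : Set Γ) with hZ
  haveI hZn : Z.Normal := inferInstance
  have hcomZ : ∀ a ∈ Cq, ∀ b ∈ Cq, ⁅a, b⁆ ∈ Z := by
    rintro _ ⟨a, ha, rfl⟩ _ ⟨b, -, rfl⟩
    have h1 := hC0com (Subgroup.commutator_mem_commutator ha (Subgroup.mem_top b))
    rw [← map_commutatorElement]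
    exact ⟨⟨_, h1.1, rfl⟩, hcent h1.2⟩
  have hpowZ : ∀ a ∈ Cq, a ^ q ∈ Z := by
    rintro _ ⟨a, ha, rfl⟩
    refine ⟨pow_mem (Subgroup.mem_map_of_mem _ ha) q, ?_⟩
    have h1 : (⟨a, ha⟩ : C0) ^ q ∈ frattini C0 := Solvable.Basics.pow_mem_frattini (hQ.to_subgroup C0) _
    rw [← map_pow]
    exact hcent (a := a ^ q) (hC0Φ ⟨_, h1, by simp⟩)
  have hZcomm : ∀ a ∈ Z, ∀ c ∈ Cq, Commute a c := fun a ha c hc =>
    (Subgroup.mem_centralizer_iff.mp ha.2 c hc).symm
  have hZq : IsPGroup q Z := hQ.to_le (inf_le_left.trans hCqQ)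
  have hZab : ∀ a ∈ Z, ∀ c ∈ Z, Commute a c := fun a ha c hc => hZcomm a ha c hc.1
  set CZ : Subgroup Γ := Subgroup.centralizer (Z : Set Γ) with hCZ
  have hCCZ : C ≤ CZ := hCA Z hZn hZq hZab
  have hcommρ : ∀ a ∈ Cq, ∀ b ∈ Cq, ∀ d ∈ Cq, Commute (ρ ⁅a, b⁆) (ρ d) := fun a ha b hb d hd =>
    (hZcomm _ (hcomZ a ha b hb) d hd).map ρ
  have hlocal : ∀ (lam : Γ → Γ → K) (h : Pairing ρ Cq lam), ∀ a ∈ Cq, a⁻¹ * (d * a * d⁻¹) ∈ radSub h := by
    intro lam h
    have hZrad : ∀ z ∈ Z, z ∈ radSub h := fun z hz => ⟨hz.1, fun d hd => h.eq_scalar hz.1 hd fun w _ => by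
      rw [commutatorElement_eq_one_iff_commute.mpr (hZcomm z hz d hd), map_one, Module.End.one_apply, one_smul]⟩
    exact hall Cq hCqq lam h (fun a ha c hc => hZrad _ (hcomZ a ha c hc)) (fun a ha => hZrad _ (hpowZ a ha))
      fun g hg => ⟨fun a ha => hCqn.conj_mem a ha g, fun a ha d hd =>
        h.eq_scalar (hCqn.conj_mem a ha g) (hCqn.conj_mem d hd g) fun w hw => by
          rw [show ⁅g * a * g⁻¹, g * d * g⁻¹⁆ = g * ⁅a, d⁆ * g⁻¹ by simp only [commutatorElement_def]; group,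
            ← Subgroup.mem_centralizer_iff.mp (hCCZ hg) _ (hcomZ a ha d hd), mul_inv_cancel_right,
            mem_pairSpace hw ha hd]⟩
  have hd1 : ∀ a ∈ Cq, a⁻¹ * (d * a * d⁻¹) ∈ Z := by
    intro a ha
    set c := a⁻¹ * (d * a * d⁻¹) with hc
    have hcC : c ∈ Cq := mul_mem (inv_mem ha) (hCqn.conj_mem a ha d)
    refine ⟨hcC, Subgroup.mem_centralizer_iff.mpr fun e he => (commutatorElement_eq_one_iff_commute.mp ?_).symm⟩
    obtain ⟨k, hk⟩ := hQ ⟨_, hCqQ (hcomZ c hcC e he).1⟩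
    refine hinj ?_
    rw [map_one]
    refine eq_one_of_joint (fun p : Cq × Cq => ρ ⁅(p.1 : Γ), (p.2 : Γ)⁆)
      (fun p p' => hcommρ _ p.1.2 _ p.2.2 _ (hcomZ _ p'.1.2 _ p'.2.2).1) _
      (fun p => hcommρ _ hcC _ he _ (hcomZ _ p.1.2 _ p.2.2).1) (N := q ^ k)
      (by rw [Nat.cast_pow]; exact pow_ne_zero k hqK)
      (by rw [← map_pow, show ⁅c, e⁆ ^ q ^ k = 1 by simpa using congrArg Subtype.val hk, map_one])
      fun χ w hw => ?_
    by_cases hW : eigs (fun p : Cq × Cq => ρ ⁅(p.1 : Γ), (p.2 : Γ)⁆) χ = ⊥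
    · rw [hW, Submodule.mem_bot] at hw
      rw [hw, map_zero]
    let lam : Γ → Γ → K := fun a d => if hac : a ∈ Cq ∧ d ∈ Cq then χ (⟨a, hac.1⟩, ⟨d, hac.2⟩) else 1
    have heq : pairSpace ρ Cq lam = eigs (fun p : Cq × Cq => ρ ⁅(p.1 : Γ), (p.2 : Γ)⁆) χ := by
      unfold pairSpace
      congr 1
      funext p
      simp [lam, p.1.2, p.2.2]
    have hP : Pairing ρ Cq lam := ⟨hcommρ, heq ▸ hW⟩
    rw [mem_pairSpace (heq ▸ hw : w ∈ pairSpace ρ Cq lam) hcC he, (hlocal lam hP a ha).2 e he, one_smul]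
  set E := Subgroup.zpowers d with hE
  have hEC : E ≤ C := Subgroup.zpowers_le.mpr hd
  have h2q : (2 : ℕ) ≠ q := by rintro rfl; exact absurd hqo (by decide)
  have hcopE : ∀ P : Subgroup Γ, IsPGroup q P → (Nat.card E).Coprime (Nat.card P) := fun P hP => by
    obtain ⟨m, hm⟩ := (hC2.to_le hEC).exists_card_eq
    obtain ⟨m', hm'⟩ := hP.exists_card_eq
    rw [hm, hm']
    exact ((Nat.coprime_primes Nat.prime_two hqf.out).mpr h2q).pow _ _
  have hECq : E ≤ Subgroup.centralizer (Cq : Set Γ) := by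
    refine Coprime.le_centralizer_of_series Subgroup.le_normalizer_of_normal (hcopE Cq hCqq)
      (Or.inl (Coprime.isSolvable_of_isMulCommutative E)) (N := Z)
      (Subgroup.zpowers_le.mpr (hCCZ hd)) (Subgroup.commutator_le.mpr fun a ha e he => ?_)
    let st : Subgroup Γ :=
      { carrier := {e | ∀ a ∈ Cq, a⁻¹ * (e * a * e⁻¹) ∈ Z}
        one_mem' := fun a _ => by simp
        mul_mem' := fun {e f} he hf a ha => by
          have h1 := he _ (hCqn.conj_mem a ha f)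
          have h2 := mul_mem (hf a ha) h1
          rwa [show a⁻¹ * (f * a * f⁻¹) * ((f * a * f⁻¹)⁻¹ * (e * (f * a * f⁻¹) * e⁻¹)) =
            a⁻¹ * (e * f * a * (e * f)⁻¹) by group] at h2
        inv_mem' := fun {e} he a ha => by
          have h1 := inv_mem (he _ (hCqn.conj_mem a ha e⁻¹))
          rw [show (e⁻¹ * a * e⁻¹⁻¹)⁻¹ * (e * (e⁻¹ * a * e⁻¹⁻¹) * e⁻¹) = (e⁻¹ * a * e)⁻¹ * a by group,
            mul_inv_rev, inv_inv] at h1
          simpa using h1 }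
    have h1 := (Subgroup.zpowers_le.mpr (show d ∈ st from hd1) : E ≤ st) he a ha
    rw [show ⁅a, e⁆ = a * (a⁻¹ * (e * a * e⁻¹))⁻¹ * a⁻¹ by simp only [commutatorElement_def]; group]
    exact hZn.conj_mem _ (inv_mem h1) a
  refine Coprime.le_centralizer_of_pxq (p := q) (P := Cq) hCqq ?_ hQ (Subgroup.le_centralizer_iff.mp hECq)
    Subgroup.le_normalizer_of_normal Subgroup.le_normalizer_of_normal ?_ (Subgroup.mem_zpowers d)
  · obtain ⟨m, hm⟩ := (hC2.to_le hEC).exists_card_eq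
    rw [hm]
    exact ((Nat.coprime_primes Nat.prime_two hqf.out).mpr h2q).pow_left _
  · rintro a ⟨haQ, haC⟩
    have h1 : (⟨a, haQ⟩ : Q) ∈ C0 := hC0C (Subgroup.mem_centralizer_iff.mpr fun b hb =>
      Subtype.ext (Subgroup.mem_centralizer_iff.mp haC b (Subgroup.mem_map_of_mem _ hb)))
    exact Subgroup.le_centralizer_iff.mp hECq ((hCmem haQ).mpr h1)

end Cfsg.Agent.GenA.TwoLengthSharp
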