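import Cfsg.Agent.GenA.TwoLengthSharp.Planes
import Cfsg.Agent.GenA.TwoLengthSharp.Frame

/-!
The half powers of `x` and `w * x`, `w` in a group of class two with central squares normalized by `x`: their
product is central modulo the centralizer of a normal `q`-group, and lies in it if `w` is a central involution.
-/

set_option autoImplicit false
set_option linter.style.haveILetI false
set_option linter.unusedSectionVars false

namespace Cfsg.Agent.GenA.TwoLengthSharp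

open Subgroup
open Module (End)
open Cfsg.Agent.PLocal.TheoremB (Normalizes)
open Cfsg.Agent.GenA.TwoLength
open Cfsg.Agent.GenA.ShultGross
open Cfsg.Agent.GenA.ShultGross.Two hiding orbit stage_one abelian_fix lower
open scoped commutatorElement

universe u

section Group

variable {G : Type*} [Group G] {C : Subgroup G}

theorem comm_mul_left (hcen : ∀ a ∈ C, ∀ b ∈ C, ∀ c ∈ C, Commute ⁅a, b⁆ c) {a b c : G} (ha : a ∈ C) (hb : b ∈ C)
    (hc : c ∈ C) : ⁅a * b, c⁆ = ⁅a, c⁆ * ⁅b, c⁆ := by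
  rw [commutatorElement_mul_left_eq_conj_mul, ← ((hcen b hb c hc a ha)).eq, mul_inv_cancel_right,
    (hcen b hb c hc ⁅a, c⁆ (mul_mem (mul_mem (mul_mem ha hc) (inv_mem ha)) (inv_mem hc))).eq]

theorem comm_self_mul (hcen : ∀ a ∈ C, ∀ b ∈ C, ∀ c ∈ C, Commute ⁅a, b⁆ c)
    (hsq : ∀ a ∈ C, ∀ c ∈ C, Commute (a * a) c) {a c : G} (ha : a ∈ C) (hc : c ∈ C) :
    ⁅a, c⁆ * ⁅a, c⁆ = 1 := by
  rw [← comm_mul_left hcen ha ha hc, commutatorElement_eq_one_iff_commute.mpr (hsq a ha c hc)]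

theorem prod_mem {x w : G} (hx : Normalizes x C) (hw : w ∈ C) : ∀ k : ℕ, (w * x) ^ k * (x ^ k)⁻¹ ∈ C := by
  intro k
  induction k with
  | zero => simp
  | succ k ih =>
    have h := mul_mem hw (hx _ ih)
    rwa [show w * (x * ((w * x) ^ k * (x ^ k)⁻¹) * x⁻¹) = (w * x) ^ (k + 1) * (x ^ (k + 1))⁻¹ by
      rw [pow_succ', pow_succ']; group] at h

/-- The elements centralizing `C` inside it, of square one. -/
def invCentre (C : Subgroup G) : Subgroup G where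
  carrier := {z | z ∈ C ∧ (∀ c ∈ C, Commute z c) ∧ z * z = 1}
  one_mem' := ⟨one_mem _, fun c _ => Commute.one_left c, one_mul 1⟩
  mul_mem' := fun {a b} ha hb => ⟨mul_mem ha.1 hb.1, fun c hc => (ha.2.1 c hc).mul_left (hb.2.1 c hc), by
    rw [show a * b * (a * b) = a * (b * a) * b by group, ← (ha.2.1 b hb.1).eq,
      show a * (a * b) * b = a * a * (b * b) by group, ha.2.2, hb.2.2, one_mul]⟩
  inv_mem' := fun {a} ha => ⟨inv_mem ha.1, fun c hc => (ha.2.1 c hc).inv_left, by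
    rw [← mul_inv_rev, ha.2.2, inv_one]⟩

theorem normalizes_centralizer [Finite G] {x : G} (hx : Normalizes x C) :
    Normalizes x (C ⊓ centralizer (C : Set G)) := fun z hz => by
  refine ⟨hx z hz.1, mem_centralizer_iff.mpr fun c hc => ?_⟩
  have hc' : x⁻¹ * c * x ∈ C := by
    have h := hx.pow (orderOf x - 1) c hc
    rwa [show x ^ (orderOf x - 1) = x⁻¹ from (inv_eq_of_mul_eq_one_left (by
      rw [← pow_succ, Nat.sub_add_cancel (orderOf_pos x), pow_orderOf_eq_one])).symm, inv_inv] at h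
  calc c * (x * z * x⁻¹) = x * (x⁻¹ * c * x * z) * x⁻¹ := by group
    _ = x * (z * (x⁻¹ * c * x)) * x⁻¹ := by rw [mem_centralizer_iff.mp hz.2 _ hc']
    _ = _ := by group

theorem normalizes_invCentre [Finite G] {x : G} (hx : Normalizes x C) : Normalizes x (invCentre C) := fun z hz => by
  have h := normalizes_centralizer hx z ⟨hz.1, mem_centralizer_iff.mpr fun c hc => (hz.2.1 c hc).eq.symm⟩
  refine ⟨h.1, fun c hc => (mem_centralizer_iff.mp h.2 c hc).symm, ?_⟩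
  rw [show x * z * x⁻¹ * (x * z * x⁻¹) = x * (z * z) * x⁻¹ by group, hz.2.2, mul_one, mul_inv_cancel]

/-- The products of conjugates for a central left factor. -/
theorem prod_mul [Finite G] {x z w : G} (hx : Normalizes x C) (hz : z ∈ C ⊓ centralizer (C : Set G)) (hw : w ∈ C) :
    ∀ k : ℕ, (z * w * x) ^ k * (x ^ k)⁻¹ = (z * x) ^ k * (x ^ k)⁻¹ * ((w * x) ^ k * (x ^ k)⁻¹) := by
  intro k
  induction k with
  | zero => simp
  | succ k ih =>
    have hV := prod_mem (normalizes_centralizer hx) hz k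
    have e : ∀ y : G, (y * x) ^ (k + 1) * (x ^ (k + 1))⁻¹ = y * (x * ((y * x) ^ k * (x ^ k)⁻¹) * x⁻¹) :=
      fun y => by rw [pow_succ', pow_succ']; group
    rw [e, e, e, ih]
    set V := (z * x) ^ k * (x ^ k)⁻¹
    set W := (w * x) ^ k * (x ^ k)⁻¹
    calc z * w * (x * (V * W) * x⁻¹) = z * (w * (x * V * x⁻¹)) * (x * W * x⁻¹) := by group
      _ = z * (x * V * x⁻¹ * w) * (x * W * x⁻¹) := by
          rw [mem_centralizer_iff.mp (normalizes_centralizer hx V hV).2 w hw]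
      _ = _ := by group

/-- The square of a product of conjugates is the product of the conjugates of the square, up to an involution
of the centre. -/
theorem prod_sq [Finite G] (hcen : ∀ a ∈ C, ∀ b ∈ C, ∀ c ∈ C, Commute ⁅a, b⁆ c)
    (hsq : ∀ a ∈ C, ∀ c ∈ C, Commute (a * a) c) {x w : G} (hx : Normalizes x C) (hw : w ∈ C) :
    ∀ k : ℕ, (w * x) ^ k * (x ^ k)⁻¹ * ((w * x) ^ k * (x ^ k)⁻¹) * ((w * w * x) ^ k * (x ^ k)⁻¹)⁻¹ ∈
      invCentre C := by
  intro k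
  induction k with
  | zero => simp
  | succ k ih =>
    have e : ∀ y : G, (y * x) ^ (k + 1) * (x ^ (k + 1))⁻¹ = y * (x * ((y * x) ^ k * (x ^ k)⁻¹) * x⁻¹) :=
      fun y => by rw [pow_succ', pow_succ']; group
    rw [e, e]
    have ha : x * ((w * x) ^ k * (x ^ k)⁻¹) * x⁻¹ ∈ C := hx _ (prod_mem hx hw k)
    have hi := normalizes_invCentre hx _ ih
    set a := x * ((w * x) ^ k * (x ^ k)⁻¹) * x⁻¹ with had
    set a₂ := x * ((w * w * x) ^ k * (x ^ k)⁻¹) * x⁻¹ with ha₂d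
    have hi' : a * a * a₂⁻¹ ∈ invCentre C := by
      convert hi using 1
      rw [had, ha₂d]; group
    have hd : ⁅w⁻¹, a⁆ ∈ invCentre C :=
      ⟨mul_mem (mul_mem (mul_mem (inv_mem hw) ha) (inv_mem (inv_mem hw))) (inv_mem ha),
        hcen _ (inv_mem hw) _ ha, comm_self_mul hcen hsq (inv_mem hw) ha⟩
    have h := mul_mem hd hi'
    have e2 : w * a * (w * a) * (w * w * a₂)⁻¹ = ⁅w⁻¹, a⁆ * (a * a * a₂⁻¹) := by
      calc w * a * (w * a) * (w * w * a₂)⁻¹ = w * w * (⁅w⁻¹, a⁆ * (a * a * a₂⁻¹)) * (w * w)⁻¹ := by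
            rw [commutatorElement_def]; group
        _ = _ := by rw [(hsq w hw _ h.1).eq, mul_inv_cancel_right]
    rw [e2]; exact h

end Group

variable {K : Type*} [Field K] [CharP K 2] [IsAlgClosed K] {V : Type*} [AddCommGroup V] [Module K V]
  [FiniteDimensional K V]
variable {Γ : Type u} [Group Γ] [Finite Γ]

theorem conj_inv_mem {C : Subgroup Γ} {b : Γ} (hb : Normalizes b C) {d : Γ} (hd : d ∈ C) : b⁻¹ * d * b ∈ C := by
  have h := hb.pow (orderOf b - 1) d hd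
  rwa [show b ^ (orderOf b - 1) = b⁻¹ from (inv_eq_of_mul_eq_one_left (by
    rw [← pow_succ, Nat.sub_add_cancel (orderOf_pos b), pow_orderOf_eq_one])).symm, inv_inv] at h

set_option maxHeartbeats 1000000 in
/-- The commutators on one pairing. -/
theorem image_pair {A : Type*} [CommGroup A] [Finite A] {F : Form A K} {q : ℕ} [Fact q.Prime] (hqo : Odd q)
    (hexp : ∀ a : A, a ^ q = 1) {ρ : Γ →* End K V} {Cq : Subgroup Γ} {lam : Γ → Γ → K}
    (φ : presGroup Cq lam →* MulAut A) (hisom : ∀ γ, φ γ ∈ F.isom) {n : ℕ} (hn : 2 ≤ n)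
    (hrefl : ∀ y : Γ, NoBlock ρ n y → ∀ hy : y ^ 2 ^ (n - 1) ∈ presGroup Cq lam,
      Refl F q (φ ⟨_, hy⟩) ∧ (φ ⟨_, hy⟩ ≠ 1 → y ^ 2 ^ (n - 2) ∈ presGroup Cq lam))
    (C : Subgroup Γ) (hCle : C ≤ presGroup Cq lam)
    (hcen : ∀ a ∈ C, ∀ b ∈ C, ∀ c ∈ C, Commute ⁅a, b⁆ c) (hsq : ∀ a ∈ C, ∀ c ∈ C, Commute (a * a) c)
    {x w c : Γ} (hxC : Normalizes x C) (hno : ∀ d ∈ C, NoBlock ρ n (d * x))
    (hhalf : ∀ d ∈ C, (d * x) ^ 2 ^ (n - 1) ∈ C) (hw : w ∈ C) (hc : c ∈ C)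
    (ht : x ^ 2 ^ (n - 1) ∈ presGroup Cq lam) (ht' : (w * x) ^ 2 ^ (n - 1) ∈ presGroup Cq lam)
    (hne : ⁅φ ⟨_, ht⟩, φ ⟨c, hCle hc⟩⁆ ≠ 1) :
    ⁅φ ⟨_, ht'⟩, φ ⟨c, hCle hc⟩⁆ = ⁅φ ⟨_, ht⟩, φ ⟨c, hCle hc⟩⁆ := by
  set k := 2 ^ (n - 2) with hk
  set b := x ^ k with hb
  have hroot : ∀ y : Γ, y ^ 2 ^ (n - 1) = y ^ k * y ^ k := fun y => by
    rw [hk, ← pow_add, ← two_mul, ← pow_succ', show n - 2 + 1 = n - 1 by omega]
  set W := (w * x) ^ k * b⁻¹ with hW
  have hWC : W ∈ C := prod_mem hxC hw k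
  have hwwC : w * w ∈ C ⊓ centralizer (C : Set Γ) :=
    ⟨mul_mem hw hw, mem_centralizer_iff.mpr fun d hd => (hsq w hw d hd).eq.symm⟩
  set U := (w * w * x) ^ k * b⁻¹ with hU
  have hUC : U ∈ C ⊓ centralizer (C : Set Γ) := prod_mem (normalizes_centralizer hxC) hwwC k
  have hWU : W * W * U⁻¹ ∈ invCentre C := prod_sq hcen hsq hxC hw k
  have h3C : w * w * w ∈ C := mul_mem (mul_mem hw hw) hw
  have hb3 : (w * w * w * x) ^ k = W * U * b := by
    have h := prod_mul hxC hwwC hw k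
    rw [← hb, ← hU, ← hW, ← mem_centralizer_iff.mp hUC.2 W hWC] at h
    rw [← h, inv_mul_cancel_right]
  have hone : x ^ 2 ^ (n - 1) = (1 * x) ^ 2 ^ (n - 1) := by rw [one_mul]
  have hx1 : NoBlock ρ n x := by simpa using hno 1 (one_mem _)
  have hbΓ : b ∈ presGroup Cq lam :=
    (hrefl x hx1 ht).2 fun e => hne (by rw [e, commutatorElement_one_left])
  set B : presGroup Cq lam := ⟨b, hbΓ⟩
  set Wg : presGroup Cq lam := ⟨W, hCle hWC⟩
  set Ug : presGroup Cq lam := ⟨U, hCle hUC.1⟩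
  have et : (⟨_, ht⟩ : presGroup Cq lam) = B * B := Subtype.ext (hroot x)
  have et' : (⟨_, ht'⟩ : presGroup Cq lam) = Wg * B * (Wg * B) := Subtype.ext (by
    show (w * x) ^ 2 ^ (n - 1) = W * b * (W * b)
    rw [hroot, hW, inv_mul_cancel_right])
  have ht3 : (w * w * w * x) ^ 2 ^ (n - 1) ∈ presGroup Cq lam := hCle (hhalf _ h3C)
  have et3 : (⟨_, ht3⟩ : presGroup Cq lam) = Wg * Ug * B * (Wg * Ug * B) := Subtype.ext (by
    show (w * w * w * x) ^ 2 ^ (n - 1) = W * U * b * (W * U * b)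
    rw [hroot, hb3])
  set C' := (C.subgroupOf (presGroup Cq lam)).map φ with hC'
  have hin : ∀ {d : Γ} (hd : d ∈ C), φ ⟨d, hCle hd⟩ ∈ C' := fun hd => mem_map_of_mem φ (mem_subgroupOf.mpr hd)
  have hbn : Normalizes b C := hxC.pow k
  have hR := (hrefl x hx1 ht).1
  have hR' := (hrefl _ (hno w hw) ht').1
  have hR3 := (hrefl _ (hno _ h3C) ht3).1
  rw [et, map_mul] at hR hne ⊢
  rw [et', map_mul, map_mul] at hR' ⊢
  rw [et3, map_mul, map_mul, map_mul] at hR3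
  refine comm_eq (F := F) hqo hexp C' ?_ ?_ ?_ (hisom B) ?_ ?_ (hin hWC) (hin hc) ?_ ?_ hR hR' (hin hUC.1) ?_ ?_
    hR3 hne
  · rintro _ ⟨g, -, rfl⟩; exact hisom g
  · rintro _ ⟨a, ha, rfl⟩ _ ⟨a', ha', rfl⟩ _ ⟨e, he, rfl⟩
    rw [← map_commutatorElement]
    exact Commute.map (show Commute ⁅a, a'⁆ e from Subtype.ext (hcen _ ha _ ha' _ he).eq) φ
  · rintro _ ⟨a, ha, rfl⟩ _ ⟨e, he, rfl⟩
    rw [← map_mul]
    exact Commute.map (show Commute (a * a) e from Subtype.ext (hsq _ ha _ he).eq) φ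
  · rintro _ ⟨g, hg, rfl⟩
    exact ⟨B * g * B⁻¹, hbn g hg, by rw [map_mul, map_mul, map_inv]⟩
  · rintro _ ⟨g, hg, rfl⟩
    exact ⟨B⁻¹ * g * B, conj_inv_mem hbn hg, by rw [map_mul, map_mul, map_inv]⟩
  · rw [← map_mul, ← et]
    exact hin (by have := hhalf 1 (one_mem _); rwa [one_mul] at this)
  · rw [← map_mul, ← map_mul, ← et']
    exact hin (hhalf w hw)
  · rintro _ ⟨e, he, rfl⟩
    exact Commute.map (show Commute Ug e from Subtype.ext (mem_centralizer_iff.mp hUC.2 _ he).symm) φ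
  · rw [← map_inv, ← map_mul, ← map_mul, ← map_mul, show Wg * Wg * Ug⁻¹ * (Wg * Wg * Ug⁻¹) = 1 from
      Subtype.ext hWU.2.2, map_one]

variable (ρ : Γ →* End K V)

set_option maxHeartbeats 1000000 in
/-- The products of two half powers, on a normal `q`-group. -/
theorem pair_key (hinj : Function.Injective ρ) {q : ℕ} [hqf : Fact q.Prime] (hqo : Odd q) (hqK : (q : K) ≠ 0)
    (Q : Subgroup Γ) [Q.Normal] (hQ : IsPGroup q Q) {n : ℕ} (hn : 2 ≤ n) (C : Subgroup Γ) (hC2 : IsPGroup 2 C)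
    (hCA : ∀ A : Subgroup Γ, A.Normal → IsPGroup q A → (∀ a ∈ A, ∀ b ∈ A, Commute a b) →
      C ≤ Subgroup.centralizer (A : Set Γ))
    (hcen : ∀ a ∈ C, ∀ b ∈ C, ∀ c ∈ C, Commute ⁅a, b⁆ c) (hsq : ∀ a ∈ C, ∀ c ∈ C, Commute (a * a) c)
    {x w : Γ} (hxC : Normalizes x C) (hno : ∀ d ∈ C, NoBlock ρ n (d * x))
    (hhalf : ∀ d ∈ C, (d * x) ^ 2 ^ (n - 1) ∈ C) (hw : w ∈ C) :
    (∀ c ∈ C, ⁅(w * x) ^ 2 ^ (n - 1) * x ^ 2 ^ (n - 1), c⁆ ∈ centralizer (Q : Set Γ)) ∧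
      (w ∈ invCentre C → (w * x) ^ 2 ^ (n - 1) * x ^ 2 ^ (n - 1) ∈ centralizer (Q : Set Γ)) := by
  set k := 2 ^ (n - 2) with hk
  have hroot : ∀ y : Γ, y ^ 2 ^ (n - 1) = y ^ k * y ^ k := fun y => by
    rw [hk, ← pow_add, ← two_mul, ← pow_succ', show n - 2 + 1 = n - 1 by omega]
  have hxC1 : x ^ 2 ^ (n - 1) ∈ C := by simpa using hhalf 1 (one_mem _)
  have hx1 : NoBlock ρ n x := by simpa using hno 1 (one_mem _)
  have hwC1 := hhalf w hw
  have ht2 : x ^ 2 ^ (n - 1) * x ^ 2 ^ (n - 1) = 1 := by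
    rw [← pow_add, ← two_mul, ← pow_succ', Nat.sub_add_cancel (by omega : 1 ≤ n), hx1.1]
  -- shifting by `w`
  have hxC' : Normalizes (w * x) C := fun d hd => by
    rw [show w * x * d * (w * x)⁻¹ = w * (x * d * x⁻¹) * w⁻¹ by group]
    exact mul_mem (mul_mem hw (hxC d hd)) (inv_mem hw)
  have hno' : ∀ d ∈ C, NoBlock ρ n (d * (w * x)) := fun d hd => mul_assoc d w x ▸ hno _ (mul_mem hd hw)
  have hhalf' : ∀ d ∈ C, (d * (w * x)) ^ 2 ^ (n - 1) ∈ C := fun d hd =>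
    mul_assoc d w x ▸ hhalf _ (mul_mem hd hw)
  refine ⟨fun c hc => centralizes_of_pairings hqo hqK ρ hinj Q hQ C hC2 hCA
    (mul_mem (mul_mem (mul_mem (mul_mem hwC1 hxC1) hc) (inv_mem (mul_mem hwC1 hxC1))) (inv_mem hc)) ?_,
    fun hwE => centralizes_of_pairings hqo hqK ρ hinj Q hQ C hC2 hCA (mul_mem hwC1 hxC1) ?_⟩
  · intro Cq _ hCqq lam h hcomR hpowR hCp
    have hCle : C ≤ presGroup Cq lam := fun g hg => hCp g hg
    refine frame hqo hqK ρ hCqq h hcomR hpowR hn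
      (hCle (mul_mem (mul_mem (mul_mem (mul_mem hwC1 hxC1) hc) (inv_mem (mul_mem hwC1 hxC1))) (inv_mem hc)))
      fun F hexp φ hisom hgood => ?_
    set t : presGroup Cq lam := ⟨_, hCle hxC1⟩ with ht
    set t' : presGroup Cq lam := ⟨_, hCle hwC1⟩ with ht'
    set cg : presGroup Cq lam := ⟨c, hCle hc⟩ with hcg
    rw [show (⟨_, _⟩ : presGroup Cq lam) = ⁅t', cg⁆ * ⁅t, cg⁆ from Subtype.ext (comm_mul_left hcen hwC1 hxC1 hc),
      map_mul, map_commutatorElement, map_commutatorElement]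
    have hee : ⁅φ t, φ cg⁆ * ⁅φ t, φ cg⁆ = 1 := by
      rw [← map_commutatorElement, ← map_mul, show ⁅t, cg⁆ * ⁅t, cg⁆ = 1 from
        Subtype.ext (comm_self_mul hcen hsq hxC1 hc), map_one]
    suffices e : ⁅φ t', φ cg⁆ = ⁅φ t, φ cg⁆ by rw [e, hee]
    by_cases h1 : ⁅φ t, φ cg⁆ = 1
    · by_contra hne
      rw [h1] at hne
      have hwx : (w⁻¹ * (w * x)) ^ 2 ^ (n - 1) ∈ presGroup Cq lam := by
        rw [inv_mul_cancel_left]; exact hCle hxC1
      have e := image_pair hqo hexp φ hisom hn hgood C hCle hcen hsq hxC' hno' hhalf' (inv_mem hw) hc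
        (hCle hwC1) hwx hne
      rw [show (⟨_, hwx⟩ : presGroup Cq lam) = t from Subtype.ext (by
        show (w⁻¹ * (w * x)) ^ 2 ^ (n - 1) = x ^ 2 ^ (n - 1)
        rw [inv_mul_cancel_left])] at e
      exact hne (e.symm.trans h1)
    · exact image_pair hqo hexp φ hisom hn hgood C hCle hcen hsq hxC hno hhalf hw hc (hCle hxC1) (hCle hwC1) h1
  · intro Cq _ hCqq lam h hcomR hpowR hCp
    have hCle : C ≤ presGroup Cq lam := fun g hg => hCp g hg
    refine frame hqo hqK ρ hCqq h hcomR hpowR hn (hCle (mul_mem hwC1 hxC1)) fun F hexp φ hisom hgood => ?_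
    set t : presGroup Cq lam := ⟨_, hCle hxC1⟩ with ht
    set t' : presGroup Cq lam := ⟨_, hCle hwC1⟩ with ht'
    rw [show (⟨_, _⟩ : presGroup Cq lam) = t' * t from rfl, map_mul]
    suffices e : φ t' = φ t by
      rw [e, ← map_mul, show t * t = 1 from Subtype.ext ht2, map_one]
    by_cases h1 : φ t = 1 ∧ φ t' = 1
    · rw [h1.1, h1.2]
    set W := (w * x) ^ k * (x ^ k)⁻¹ with hW
    have hWE : W ∈ invCentre C := prod_mem (normalizes_invCentre hxC) hwE k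
    have hW'E : x ^ k * W * (x ^ k)⁻¹ ∈ invCentre C := (normalizes_invCentre hxC).pow k _ hWE
    have hWΓ : W ∈ presGroup Cq lam := hCle hWE.1
    have hbΓ : x ^ k ∈ presGroup Cq lam := by
      by_cases h0 : φ t = 1
      · have h2 := (hgood _ (hno w hw) (hCle hwC1)).2 fun e => h1 ⟨h0, e⟩
        have e : x ^ k = W⁻¹ * (w * x) ^ k := by rw [hW]; group
        rw [e]
        exact mul_mem (inv_mem hWΓ) h2
      · exact (hgood x hx1 (hCle hxC1)).2 h0
    set B : presGroup Cq lam := ⟨_, hbΓ⟩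
    set Wg : presGroup Cq lam := ⟨_, hWΓ⟩
    have hR := (hgood x hx1 (hCle hxC1)).1
    have hR' := (hgood _ (hno w hw) (hCle hwC1)).1
    have et : t = B * B := Subtype.ext (hroot x)
    have et' : t' = Wg * B * (Wg * B) := Subtype.ext (by
      show (w * x) ^ 2 ^ (n - 1) = W * x ^ k * (W * x ^ k)
      rw [hroot, hW, inv_mul_cancel_right])
    change Refl F q (φ t) at hR
    change Refl F q (φ t') at hR'
    rw [et, map_mul] at hR
    rw [et', map_mul, map_mul] at hR'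
    rw [et, et', map_mul φ (Wg * B), map_mul φ Wg, map_mul φ B]
    refine central_eq hqo hexp (hisom Wg) (hisom B) hR hR' ?_ ?_ ?_
    · rw [← map_mul, show Wg * Wg = 1 from Subtype.ext hWE.2.2, map_one]
    · rw [← map_inv, ← map_mul, ← map_mul]
      exact Commute.map (show Commute Wg (B * Wg * B⁻¹) from Subtype.ext (hWE.2.1 _ hW'E.1).eq) φ
    · rw [← map_mul]
      exact Commute.map (show Commute (B * B) Wg from
        Subtype.ext (hWE.2.1 _ (show x ^ k * x ^ k ∈ C from hroot x ▸ hxC1)).eq.symm) φ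

end Cfsg.Agent.GenA.TwoLengthSharp
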