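import Cfsg.Agent.GenA.TwoLengthSharp.Global
import Cfsg.Agent.GenA.TwoLengthSharp.Sections
import Cfsg.Agent.Lib.PLocal.PLengthBound.Main
import Cfsg.Agent.S0205

/-!
The `2`-length of a finite `2`-soluble group is at most `e` if the exponent of a Sylow `2`-subgroup divides `2 ^ e`.
-/

set_option autoImplicit false
set_option linter.style.haveILetI false

namespace Cfsg.Agent.GenA.TwoLengthSharp

open Cfsg Subgroup
open Module (End)
open Cfsg.Agent.PLocal.TheoremB (Normalizes geom_sum_eq_pow)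
open Cfsg.Agent.PLocal.PLengthBound (exists_layer no_full_block exists_closed_rep quot_core eq_top_of_sylow_le)
open Cfsg.Agent.GenA.UpperPSeries (S le_succ mono step_coprime step_pPower succ_odd succ_even
  relIndex_comap_pPrimeCore_coprime relIndex_comap_pCore)
open scoped commutatorElement

universe u

theorem isSolvable_of_isPSolvable_two {G : Type u} [Group G] [Finite G] (hG : IsPSolvable 2 G) :
    Group.IsSolvable G := by
  haveI : Fact (Nat.Prime 2) := ⟨Nat.prime_two⟩
  obtain ⟨n, H, h0, hn, hmono, hnorm, hstep⟩ := hG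
  have key : ∀ i : Fin (n + 1), Group.IsSolvable (H i) := by
    intro i
    induction i using Fin.induction with
    | zero =>
      rw [h0]
      exact Group.isSolvable_of_comm fun a b => Subsingleton.elim _ _
    | succ i ih =>
      have hle : H i.castSucc ≤ H i.succ := hmono (Fin.castSucc_le_succ i)
      haveI := hnorm i.castSucc
      haveI : ((H i.castSucc).subgroupOf (H i.succ)).Normal := inferInstance
      haveI := ih
      haveI : Group.IsSolvable (H i.succ ⧸ (H i.castSucc).subgroupOf (H i.succ)) := by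
        rcases hstep i with ⟨m, hm⟩ | hco
        · haveI : Group.IsNilpotent (H i.succ ⧸ (H i.castSucc).subgroupOf (H i.succ)) :=
            (IsPGroup.of_card (p := 2) (n := m) hm).isNilpotent
          infer_instance
        · exact S0205.result (Nat.Coprime.odd_of_right hco)
      exact Group.isSolvable_of_ker_le_range (inclusion hle)
        (QuotientGroup.mk' ((H i.castSucc).subgroupOf (H i.succ)))
        (by rw [QuotientGroup.ker_mk', Subgroup.inclusion_range])
  haveI := key (Fin.last n)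
  refine Group.isSolvable_of_surjective (f := (H (Fin.last n)).subtype) fun g => ⟨⟨g, ?_⟩, rfl⟩
  rw [hn]; trivial

section Shift

variable {G Q : Type*} [Group G] [Finite G] [Group Q] [Finite Q]

/-- The upper series of an image, pulled back. -/
theorem comap_le (φ : G →* Q) (hφ : Function.Surjective φ) {m : ℕ} (hker : φ.ker ≤ S 2 G (2 * m + 1)) :
    ∀ i, (S 2 Q (2 * i + 1)).comap φ ≤ S 2 G (2 * (m + i) + 1) := by
  haveI : Fact (Nat.Prime 2) := ⟨Nat.prime_two⟩
  have hrel : ∀ A B : Subgroup Q, (A.comap φ).relIndex (B.comap φ) = A.relIndex B := fun A B => by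
    rw [relIndex_comap, map_comap_eq_self_of_surjective hφ]
  intro i
  induction i with
  | zero =>
    refine step_coprime (A := (S 2 Q 0).comap φ) (comap_mono (le_succ 0)) ?_ ?_
    · rw [hrel, succ_even (p := 2) (G := Q) Even.zero]
      exact relIndex_comap_pPrimeCore_coprime _
    · show (⊥ : Subgroup Q).comap φ ≤ _
      rwa [MonoidHom.comap_bot]
  | succ i ih =>
    obtain ⟨k, hk⟩ := relIndex_comap_pCore (p := 2) (S 2 Q (2 * i + 1))
    rw [← succ_odd (p := 2) (G := Q) (n := 2 * i + 1) (by simp [parity_simps]), ← hrel] at hk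
    have h1 := step_pPower (comap_mono (le_succ _)) hk ih
    refine step_coprime (A := (S 2 Q (2 * i + 1 + 1)).comap φ) (comap_mono (le_succ _)) ?_ h1
    rw [hrel, succ_even (p := 2) (G := Q) (n := 2 * i + 1 + 1) (by simp [parity_simps])]
    exact relIndex_comap_pPrimeCore_coprime _

theorem eq_top_of_image (φ : G →* Q) (hφ : Function.Surjective φ) {m : ℕ} (hker : φ.ker ≤ S 2 G (2 * m + 1))
    {i : ℕ} (hQ : S 2 Q (2 * i + 1) = ⊤) : S 2 G (2 * (m + i) + 1) = ⊤ := by
  have h := comap_le φ hφ hker i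
  rw [hQ, comap_top] at h
  exact top_le_iff.mp h

theorem pCore_le_three : pCore 2 G ≤ S 2 G (2 * 1 + 1) := by
  haveI : Fact (Nat.Prime 2) := ⟨Nat.prime_two⟩
  obtain ⟨k, hk⟩ := IsPGroup.iff_card.mp (Cores.pCore_isPGroup (G := G) 2)
  exact step_pPower (A := ⊥) bot_le (by rw [relIndex_bot_left, hk]) bot_le

theorem pPrimeCore_le_one : pPrimeCore 2 G ≤ S 2 G (2 * 0 + 1) := by
  haveI : (pPrimeCore 2 G).Normal := Cores.pPrimeCore_normal 2
  exact step_coprime (A := ⊥) bot_le (by rw [relIndex_bot_left]; exact Cores.pPrimeCore_card_coprime 2) bot_le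

end Shift

/-- The product of two modules. -/
def prodRep {G : Type*} [Group G] {W W' : Type*} [AddCommGroup W] [Module (ZMod 2) W] [AddCommGroup W']
    [Module (ZMod 2) W'] (ρ : G →* End (ZMod 2) W) (ρ' : G →* End (ZMod 2) W') :
    G →* End (ZMod 2) (W × W') where
  toFun g := LinearMap.prodMap (ρ g) (ρ' g)
  map_one' := LinearMap.ext fun v => by simp
  map_mul' a b := LinearMap.ext fun v => by simp

section prodRep

variable {G : Type*} [Group G] {W W' : Type*} [AddCommGroup W] [Module (ZMod 2) W] [AddCommGroup W']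
    [Module (ZMod 2) W'] (ρ : G →* End (ZMod 2) W) (ρ' : G →* End (ZMod 2) W')

theorem prodRep_apply (g : G) (v : W × W') : prodRep ρ ρ' g v = (ρ g v.1, ρ' g v.2) := rfl

theorem mem_ker_prodRep {g : G} : g ∈ (prodRep ρ ρ').ker ↔ g ∈ ρ.ker ∧ g ∈ ρ'.ker := by
  simp only [MonoidHom.mem_ker]
  refine ⟨fun e => ⟨LinearMap.ext fun a => ?_, LinearMap.ext fun a => ?_⟩, fun e => LinearMap.ext fun v => ?_⟩
  · exact congrArg Prod.fst (LinearMap.congr_fun e (a, 0))
  · exact congrArg Prod.snd (LinearMap.congr_fun e (0, a))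
  · rw [prodRep_apply, e.1, e.2]; rfl

theorem sum_prodRep {y : G} {s : Finset ℕ} (h : ∑ i ∈ s, ρ y ^ i = 0) (h' : ∑ i ∈ s, ρ' y ^ i = 0) :
    ∑ i ∈ s, prodRep ρ ρ' y ^ i = 0 := by
  refine LinearMap.ext fun v => ?_
  rw [LinearMap.sum_apply, LinearMap.zero_apply]
  simp only [← map_pow, prodRep_apply]
  refine Prod.ext ?_ ?_
  · rw [Prod.fst_sum]
    simp only [map_pow]
    rw [← LinearMap.sum_apply, h, LinearMap.zero_apply]; rfl
  · rw [Prod.snd_sum]
    simp only [map_pow]
    rw [← LinearMap.sum_apply, h', LinearMap.zero_apply]; rfl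

end prodRep

/-- An element of odd order centralizing the involutions of an abelian normal `2`-group centralizes it. -/
theorem fix_of_fix_involutions {G : Type*} [Group G] [Finite G] (Z : Subgroup G) [hZn : Z.Normal]
    (hZ : IsPGroup 2 Z) (hab : ∀ a ∈ Z, ∀ b ∈ Z, Commute a b) {e : G} (he : Odd (orderOf e))
    (hfix : ∀ z ∈ Z, z * z = 1 → Commute e z) : ∀ z ∈ Z, Commute e z := by
  suffices h : ∀ j : ℕ, ∀ z ∈ Z, z ^ 2 ^ j = 1 → Commute e z by
    intro z hz
    obtain ⟨j, hj⟩ := hZ ⟨z, hz⟩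
    exact h j z hz (by simpa using congrArg Subtype.val hj)
  intro j
  induction j with
  | zero => intro z _ hz; rw [pow_zero, pow_one] at hz; rw [hz]; exact Commute.one_right e
  | succ j ih =>
    intro z hz hzj
    have hw : Commute e (z * z) := ih _ (mul_mem hz hz) (by rw [← sq, ← pow_mul, ← pow_succ', hzj])
    set z' := e * z * e⁻¹ with hz'
    have hz'Z : z' ∈ Z := hZn.conj_mem z hz e
    set d := z' * z⁻¹ with hd
    have hdZ : d ∈ Z := mul_mem hz'Z (inv_mem hz)
    have hd2 : d * d = 1 := by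
      calc d * d = z' * (z⁻¹ * z') * z⁻¹ := by rw [hd]; group
        _ = z' * z' * (z⁻¹ * z⁻¹) := by rw [(hab _ (inv_mem hz) _ hz'Z).eq]; group
        _ = e * (z * z) * e⁻¹ * (z * z)⁻¹ := by rw [hz']; group
        _ = 1 := by rw [hw.eq, mul_inv_cancel_right, mul_inv_cancel]
    have hdd := hfix d hdZ hd2
    have hk : ∀ k : ℕ, e ^ k * z * (e ^ k)⁻¹ = d ^ k * z := by
      intro k
      induction k with
      | zero => simp
      | succ k ih =>
        calc e ^ (k + 1) * z * (e ^ (k + 1))⁻¹ = e * (e ^ k * z * (e ^ k)⁻¹) * e⁻¹ := by rw [pow_succ']; group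
          _ = e * d ^ k * (z * e⁻¹) := by rw [ih]; group
          _ = d ^ k * (e * z * e⁻¹) := by rw [(hdd.pow_right k).eq]; group
          _ = d ^ (k + 1) * z := by
            rw [← hz', pow_succ, mul_assoc (d ^ k) d z, show d * z = z' from inv_mul_cancel_right z' z]
    have h1 := hk (orderOf e)
    rw [pow_orderOf_eq_one, one_mul, inv_one, mul_one] at h1
    obtain ⟨m, hm⟩ := he
    have h2 : d = 1 := by
      have h3 : d ^ orderOf e = 1 := (mul_eq_right.mp h1.symm)
      rwa [hm, pow_succ, pow_mul, sq, hd2, one_pow, one_mul] at h3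
    show e * z = z * e
    exact mul_inv_eq_iff_eq_mul.mp ((mul_inv_eq_one.mp h2))

set_option maxHeartbeats 2000000 in
/-- A faithful module on which no element of a Sylow `2`-subgroup of exponent `2 ^ f` has a full block. -/
theorem faithful_le : ∀ (f : ℕ) {H : Type u} [Group H] [Finite H] [Group.IsSolvable H], pCore 2 H = ⊥ →
    ∀ {W : Type u} [AddCommGroup W] [Module (ZMod 2) W] [Finite W] (ρ : H →* End (ZMod 2) W),
    Function.Injective ρ → ∀ P : Sylow 2 H, (∀ g ∈ (P : Subgroup H), g ^ 2 ^ f = 1) →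
    (∀ g ∈ (P : Subgroup H), (ρ g - 1) ^ (2 ^ f - 1) = 0) → S 2 H (2 * (f - 1) + 1) = ⊤ := by
  intro f
  induction f with
  | zero =>
    intro H _ _ _ _ W _ _ _ ρ _ P hexp _
    haveI : Fact (Nat.Prime 2) := ⟨Nat.prime_two⟩
    exact eq_top_of_sylow_le P 0 fun g hg => by
      have h := hexp g hg
      rw [pow_zero, pow_one] at h
      rw [h]; exact one_mem _
  | succ f ih =>
  intro H _ _ _ hO W _ _ _ ρ hρ P hexp hblk
  haveI : Fact (Nat.Prime 2) := ⟨Nat.prime_two⟩
  rcases Nat.eq_zero_or_pos f with rfl | hf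
  · refine eq_top_of_sylow_le P 0 fun g hg => ?_
    have h := hblk g hg
    rw [show 2 ^ (0 + 1) - 1 = 1 from rfl, pow_one, sub_eq_zero, ← map_one ρ] at h
    rw [hρ h]; exact one_mem _
  rcases subsingleton_or_nontrivial H with hsub | hnt
  · exact eq_top_of_sylow_le P _ fun g _ => by rw [Subsingleton.elim g 1]; exact one_mem _
  -- the stable subgroup
  obtain ⟨V, _, _, _, _, τ, hτ, hblk'⟩ := exists_closed_rep ρ hρ
  haveI : CharP (AlgebraicClosure (ZMod 2)) 2 :=
    charP_of_injective_algebraMap (algebraMap (ZMod 2) (AlgebraicClosure (ZMod 2))).injective 2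
  obtain ⟨T, hTn, hTR, hhalf, hT1, hT2⟩ := exists_stable hO τ hτ P (show 2 ≤ f + 1 by omega) hexp
    fun g hg v => by
      rw [← LinearMap.sum_apply, geom_sum_eq_pow (K := AlgebraicClosure (ZMod 2)) (p := 2) (f + 1),
        hblk' _ _ (hblk g hg), LinearMap.zero_apply]
  rw [Nat.add_sub_cancel] at hhalf hT1 hT2 ⊢
  haveI : (pPrimeCore 2 H).Normal := Cores.pPrimeCore_normal 2
  set π := QuotientGroup.mk' (pPrimeCore 2 H) with hπ
  have hπs := QuotientGroup.mk'_surjective (pPrimeCore 2 H)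
  set PK : Sylow 2 (H ⧸ pPrimeCore 2 H) := P.mapSurjective hπs with hPK
  have hPKeq : (PK : Subgroup (H ⧸ pPrimeCore 2 H)) = (P : Subgroup H).map π := by
    rw [hPK, Sylow.coe_mapSurjective]
  rw [← hPKeq] at hhalf hT1 hT2
  have hinv : ∀ y ∈ (PK : Subgroup (H ⧸ pPrimeCore 2 H)), (y ^ 2 ^ f)⁻¹ = y ^ 2 ^ f := by
    intro y hy
    rw [hPKeq] at hy
    obtain ⟨x, hx, rfl⟩ := hy
    refine (eq_inv_of_mul_eq_one_left ?_).symm
    rw [← pow_add, ← two_mul, ← pow_succ', ← map_pow, hexp x hx, map_one]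
  set R := pCore 2 (H ⧸ pPrimeCore 2 H) with hR
  have hR2 : IsPGroup 2 R := Cores.pCore_isPGroup 2
  have hRP : R ≤ (PK : Subgroup (H ⧸ pPrimeCore 2 H)) := Cores.pCore_le_sylow PK
  set ZT := T ⊓ centralizer (T : Set (H ⧸ pPrimeCore 2 H)) with hZT
  haveI : ZT.Normal := inferInstance
  haveI hΩn : (invCentre T).Normal := ⟨fun z hz g => normalizes_invCentre (fun t ht => hTn.conj_mem t ht g) z hz⟩
  have hΩT : invCentre T ≤ T := fun z hz => hz.1
  -- the three modules
  obtain ⟨W₁, _, _, _, ρ₁, hR₁, hs₁, ho₁⟩ := exists_section_rep R hR2 (PK : Set (H ⧸ pPrimeCore 2 H)) (2 ^ f) T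
    R inferInstance hTR le_rfl
    (fun w hw y hy => mul_mem (hhalf _ (mul_mem (hRP hw) hy)) (inv_mem (hhalf y hy)))
  obtain ⟨W₂, _, _, _, ρ₂, hR₂, hs₂, ho₂⟩ := exists_section_rep R hR2 (PK : Set (H ⧸ pPrimeCore 2 H)) (2 ^ f) ZT
    T hTn inf_le_left hTR
    (fun w hw y hy => by rw [hinv y hy]; exact hT1 w hw y hy)
  obtain ⟨W₃, _, _, _, ρ₃, hR₃, hs₃, ho₃⟩ := exists_section_rep R hR2 (PK : Set (H ⧸ pPrimeCore 2 H)) (2 ^ f) ⊥
    (invCentre T) hΩn bot_le (hΩT.trans hTR)
    (fun w hw y hy => by rw [hinv y hy]; exact mem_bot.mpr (hT2 w hw y hy))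
  set σ := prodRep ρ₁ (prodRep ρ₂ ρ₃) with hσ
  have hsolv : Group.IsSolvable (H ⧸ pPrimeCore 2 H) := inferInstance
  have hkodd : ∀ e ∈ σ.ker, Odd (orderOf e) → e = 1 := by
    intro e he hodd
    rw [hσ, mem_ker_prodRep, mem_ker_prodRep] at he
    have hcop : ∀ U : Subgroup (H ⧸ pPrimeCore 2 H), IsPGroup 2 U → (Nat.card (zpowers e)).Coprime (Nat.card U) :=
      fun U hU => by
      obtain ⟨k, hk⟩ := hU.exists_card_eq
      rw [hk, Nat.card_zpowers]
      exact hodd.coprime_two_right.pow_right k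
    have hmem : ∀ {g}, g ∈ zpowers e → Odd (orderOf g) := fun hg => hodd.of_dvd_nat <| by
      rw [← Nat.card_zpowers, ← Nat.card_zpowers e]
      exact card_dvd_of_le (zpowers_le.mpr hg)
    have hΩfix : ∀ z ∈ ZT, z * z = 1 → Commute e z := fun z hz hz2 => by
      have h := ho₃ e he.2.2 hodd z ⟨hz.1, fun t ht => (mem_centralizer_iff.mp hz.2 t ht).symm, hz2⟩
      exact (commutatorElement_eq_one_iff_commute.mp (mem_bot.mp h)).symm
    have hZ : zpowers e ≤ centralizer (ZT : Set (H ⧸ pPrimeCore 2 H)) :=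
      zpowers_le.mpr (mem_centralizer_iff.mpr fun z hz =>
        (fix_of_fix_involutions ZT (hR2.to_le (inf_le_left.trans hTR))
          (fun a ha b hb => (mem_centralizer_iff.mp ha.2 b hb.1).symm) hodd hΩfix z hz).eq.symm)
    have hTc : zpowers e ≤ centralizer (T : Set (H ⧸ pPrimeCore 2 H)) := by
      refine Coprime.le_centralizer_of_series le_normalizer_of_normal (hcop T (hR2.to_le hTR))
        (Or.inl (Coprime.isSolvable_of_isMulCommutative _)) (N := ZT) hZ (commutator_le.mpr fun t ht g hg => ?_)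
      exact ho₂ g (zpowers_le.mpr he.2.1 hg) (hmem hg) t ht
    have hRc : zpowers e ≤ centralizer (R : Set (H ⧸ pPrimeCore 2 H)) := by
      refine Coprime.le_centralizer_of_series le_normalizer_of_normal (hcop R hR2)
        (Or.inl (Coprime.isSolvable_of_isMulCommutative _)) (N := T) hTc (commutator_le.mpr fun t ht g hg => ?_)
      exact ho₁ g (zpowers_le.mpr he.1 hg) (hmem hg) t ht
    have heR : e ∈ R := PLocal.PSolvable.centralizer_pCore_le (Cores.pPrimeCore_quotient_self 2)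
      (PLocal.SolvableSeparable.isPSolvable_of_isSolvable 2 _) (hRc (mem_zpowers e))
    obtain ⟨j, hj⟩ := hR2 ⟨e, heR⟩
    exact orderOf_eq_one_iff.mp (Nat.eq_one_of_dvd_coprimes (hodd.coprime_two_right.pow_right j) dvd_rfl
      (orderOf_dvd_of_pow_eq_one (by simpa using congrArg Subtype.val hj)))
  have hker : σ.ker = R := by
    refine le_antisymm (Cores.le_pCore (IsPGroup.iff_orderOf.mpr fun g => ?_)) fun r hr => ?_
    · obtain ⟨k, m, hm, hkm⟩ := Nat.exists_eq_pow_mul_and_not_dvd (orderOf_pos g).ne' 2 (by omega)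
      refine ⟨k, ?_⟩
      have hsm : orderOf (((g ^ 2 ^ k : σ.ker) : H ⧸ pPrimeCore 2 H)) = m := by
        rw [Subgroup.orderOf_coe, orderOf_pow_of_dvd (pow_ne_zero _ two_ne_zero) (hkm ▸ dvd_mul_right _ _), hkm,
          Nat.mul_div_cancel_left _ (Nat.pow_pos (by omega))]
      have h1 := hkodd _ (g ^ 2 ^ k : σ.ker).2 (by rw [hsm]; exact Nat.odd_iff.mpr (by omega))
      rw [h1, orderOf_one] at hsm
      rw [hkm, ← hsm, mul_one]
    · rw [hσ, mem_ker_prodRep, mem_ker_prodRep]
      exact ⟨hR₁ hr, hR₂ hr, hR₃ hr⟩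
  -- the quotient by the core
  set ψ := QuotientGroup.mk' R with hψ
  have hψs := QuotientGroup.mk'_surjective R
  let σ₁ : (H ⧸ pPrimeCore 2 H) ⧸ R →* End (ZMod 2) (W₁ × W₂ × W₃) := QuotientGroup.lift R σ hker.ge
  have hσ₁ : Function.Injective σ₁ := by
    rw [injective_iff_map_eq_one]
    intro a ha
    obtain ⟨a, rfl⟩ := QuotientGroup.mk_surjective a
    exact (QuotientGroup.eq_one_iff a).mpr (hker ▸ MonoidHom.mem_ker.mpr ha)
  have hQ := ih (H := (H ⧸ pPrimeCore 2 H) ⧸ R) PLocal.Cores.pCore_quotient_pCore σ₁ hσ₁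
    (PK.mapSurjective hψs)
    (fun g hg => by
      rw [Sylow.coe_mapSurjective] at hg
      obtain ⟨y, hy, rfl⟩ := hg
      rw [← map_pow]
      exact (QuotientGroup.eq_one_iff _).mpr (hTR (hhalf y hy)))
    (fun g hg => by
      rw [Sylow.coe_mapSurjective] at hg
      obtain ⟨y, hy, rfl⟩ := hg
      show (σ y - 1) ^ (2 ^ f - 1) = 0
      rw [← geom_sum_eq_pow (K := ZMod 2) (p := 2) f]
      exact sum_prodRep _ _ (hs₁ y hy) (sum_prodRep _ _ (hs₂ y hy) (hs₃ y hy)))
  have h2 := eq_top_of_image ψ hψs (m := 1) (by rw [hψ, QuotientGroup.ker_mk', hR]; exact pCore_le_three) hQ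
  have h3 := eq_top_of_image π hπs (m := 0) (by rw [hπ, QuotientGroup.ker_mk']; exact pPrimeCore_le_one) h2
  rwa [show 0 + (1 + (f - 1)) = f by omega] at h3

variable {G : Type u} [Group G] [Finite G]

/-- The `2`-length is at most the logarithm of the exponent of a Sylow `2`-subgroup. -/
theorem pLength_two_le_exponent (hG : IsPSolvable 2 G) (e : ℕ)
    (hexp : ∀ (P : Sylow 2 G), ∀ x ∈ (P : Subgroup G), x ^ 2 ^ e = 1) : PLengthLE 2 e G := by
  haveI : Fact (Nat.Prime 2) := ⟨Nat.prime_two⟩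
  obtain ⟨P⟩ : Nonempty (Sylow 2 G) := inferInstance
  show S 2 G (2 * e + 1) = ⊤
  rcases Nat.eq_zero_or_pos e with rfl | he
  · exact eq_top_of_sylow_le P 0 fun x hx => by
      have h := hexp P x hx
      rw [pow_zero, pow_one] at h
      rw [h]; exact one_mem _
  haveI : Group.IsSolvable G := isSolvable_of_isPSolvable_two hG
  have hs := QuotientGroup.mk'_surjective (S 2 G (2 * 0 + 1))
  have hO : pPrimeCore 2 (G ⧸ S 2 G (2 * 0 + 1)) = ⊥ := quot_core 0
  set π := QuotientGroup.mk' (S 2 G (2 * 0 + 1)) with hπ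
  set PM := P.mapSurjective hs with hPM
  have hexpM : ∀ g ∈ (PM : Subgroup (G ⧸ S 2 G (2 * 0 + 1))), g ^ 2 ^ e = 1 := by
    intro g hg
    rw [hPM, Sylow.coe_mapSurjective] at hg
    obtain ⟨g, hg, rfl⟩ := hg
    rw [← map_pow, hexp P g hg, map_one]
  obtain ⟨W, _, _, _, ρ, φ, hker, hsurj, hequiv⟩ :=
    exists_layer (PLocal.SolvableSeparable.isPSolvable_of_isSolvable 2 (G ⧸ S 2 G (2 * 0 + 1))) hO
  set ψ := QuotientGroup.mk' (pCore 2 (G ⧸ S 2 G (2 * 0 + 1))) with hψ
  have hψs := QuotientGroup.mk'_surjective (pCore 2 (G ⧸ S 2 G (2 * 0 + 1)))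
  let ρ₁ : (G ⧸ S 2 G (2 * 0 + 1)) ⧸ pCore 2 (G ⧸ S 2 G (2 * 0 + 1)) →* End (ZMod 2) W :=
    QuotientGroup.lift _ ρ hker.ge
  have hρ₁ : Function.Injective ρ₁ := by
    rw [injective_iff_map_eq_one]
    intro a ha
    obtain ⟨a, rfl⟩ := QuotientGroup.mk_surjective a
    exact (QuotientGroup.eq_one_iff a).mpr (hker ▸ MonoidHom.mem_ker.mpr ha)
  have hQ := faithful_le e PLocal.Cores.pCore_quotient_pCore ρ₁ hρ₁ (PM.mapSurjective hψs)
    (fun g hg => by
      rw [Sylow.coe_mapSurjective] at hg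
      obtain ⟨g, hg, rfl⟩ := hg
      rw [← map_pow, hexpM g hg, map_one])
    (fun g hg => by
      rw [Sylow.coe_mapSurjective] at hg
      obtain ⟨g, hg, rfl⟩ := hg
      exact no_full_block hsurj hequiv PM hexpM hg)
  have h2 := eq_top_of_image ψ hψs (m := 1) (by rw [hψ, QuotientGroup.ker_mk']; exact pCore_le_three) hQ
  have h3 := eq_top_of_image π hs (m := 0) (by rw [hπ, QuotientGroup.ker_mk']) h2
  rwa [show 0 + (1 + (e - 1)) = e by omega] at h3

end Cfsg.Agent.GenA.TwoLengthSharp
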