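import Cfsg.Agent.GenA.TwoLength.Planes

/-!
Isometries of an alternating pairing: two square roots `b` and `W * b` of reflections, `W` in a group of class
two with central squares normalized by `b`. The two reflections have the same commutators with that group, and
are equal if `W` is a central involution.
-/

set_option autoImplicit false

namespace Cfsg.Agent.GenA.TwoLengthSharp

open Cfsg.Agent.GenA.TwoLength
open scoped commutatorElement

variable {A K : Type*} [CommGroup A] [Field K] [Finite A] {F : Form A K} {q : ℕ} [hqf : Fact q.Prime]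
  (hqo : Odd q) (hexp : ∀ a : A, a ^ q = 1)

include hqo hexp

theorem fix_of_inf_neg {g : MulAut A} {M : Subgroup A} (hM : ∀ a ∈ M, g a ∈ M) (hg : ∀ a ∈ M, g (g a) = a)
    (h0 : M ⊓ neg g = ⊥) : ∀ a ∈ M, g a = a := by
  intro a ha
  obtain ⟨p, -, m, hm, hp, hgm, rfl⟩ := split hqo hexp hM hg ha
  have h1 : m = 1 := Subgroup.mem_bot.mp (h0 ▸ (⟨hm, hgm⟩ : m ∈ M ⊓ neg g))
  rw [h1, mul_one, hp]

set_option maxHeartbeats 400000 in
/-- Multiplying the root by a central involution does not change the reflection. -/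
theorem central_eq {b W : MulAut A} (hW : W ∈ F.isom) (hb : b ∈ F.isom) (ht : Refl F q (b * b))
    (ht' : Refl F q (W * b * (W * b))) (hW2 : W * W = 1) (hc : Commute W (b * W * b⁻¹))
    (hct : Commute (b * b) W) : W * b * (W * b) = b * b := by
  set W' := b * W * b⁻¹ with hW'
  set N := W * W' with hN
  have hW'2 : W' * W' = 1 := by
    rw [hW', show b * W * b⁻¹ * (b * W * b⁻¹) = b * (W * W) * b⁻¹ by group, hW2, mul_one, mul_inv_cancel]
  have hNI : N ∈ F.isom := mul_mem hW (mul_mem (mul_mem hb hW) (inv_mem hb))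
  have hN2 : N * N = 1 := by
    calc N * N = W * (W' * W) * W' := by rw [hN]; group
      _ = W * W * (W' * W') := by rw [← hc.eq]; group
      _ = 1 := by rw [hW2, hW'2, mul_one]
  have hbN : b * N * b⁻¹ = N := by
    calc b * N * b⁻¹ = W' * (b * b * W * (b * b)⁻¹) := by rw [hN, hW']; group
      _ = W' * W := by rw [hct.eq, mul_inv_cancel_right]
      _ = N := hc.eq.symm
  have hbtc : Commute b (b * b) := (Commute.refl b).mul_right (Commute.refl b)
  have hNt : Commute (b * b) N := by
    have h : Commute (b * b) W' := by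
      show b * b * W' = W' * (b * b)
      rw [hW', show b * b * (b * W * b⁻¹) = b * (b * b * W) * b⁻¹ by group, hct.eq]; group
    exact hct.mul_right h
  have e : W * b * (W * b) = N * (b * b) := by rw [hN, hW']; group
  rw [e]
  suffices hN1 : N = 1 by rw [hN1, one_mul]
  by_contra hN1
  have hNN : ∀ a, N (N a) = a := fun a => by rw [← MulAut.mul_apply, hN2, MulAut.one_apply]
  have hWW : ∀ a, W (W a) = a := fun a => by rw [← MulAut.mul_apply, hW2, MulAut.one_apply]
  have hWN : Commute W N := (Commute.refl W).mul_right hc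
  have hND : F.ND (neg N) := by
    have h := nd_neg hqo hexp hNI F.nd_top (fun _ _ => trivial) fun a _ => hNN a
    rwa [top_inf_eq] at h
  set M := neg N ⊓ neg W with hM
  have hMD : F.ND M := nd_neg hqo hexp hW hND (fun a ha => apply_mem_neg hWN ha) fun a _ => hWW a
  have hbM : ∀ x ∈ M, b x ∈ neg N ∧ W' (b x) = (b x)⁻¹ := fun x hx =>
    ⟨hbN ▸ mem_neg_conj hx.1, mem_neg_conj (g := b) hx.2⟩
  have hsep : ∀ y, y ∈ M → W' y = y⁻¹ → y = 1 := fun y hy hy' => by
    refine eq_one_of_inv hqo hexp ?_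
    have h : N y = y⁻¹ := hy.1
    rwa [hN, MulAut.mul_apply, hy', map_inv, mem_neg.mp hy.2, inv_inv] at h
  have hM0 : M ≠ ⊥ := by
    intro h0
    have hfix := fix_of_inf_neg hqo hexp (fun a ha => apply_mem_neg hWN ha) (fun a _ => hWW a) h0
    refine hN1 (MulEquiv.ext fun a => ?_)
    rw [MulAut.one_apply]
    refine fix_of_inf_neg hqo hexp (M := ⊤) (fun _ _ => trivial) (fun a _ => hNN a) ?_ a trivial
    rw [top_inf_eq, eq_bot_iff]
    intro y hy
    rw [Subgroup.mem_bot]
    refine eq_one_of_inv hqo hexp ?_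
    have hy' : b⁻¹ y ∈ neg N := by
      have h := mem_neg_conj (g := b⁻¹) hy
      rwa [show b⁻¹ * N * b⁻¹⁻¹ = N by nth_rw 1 [← hbN]; group] at h
    have h : N y = y⁻¹ := hy
    rwa [hN, MulAut.mul_apply, hW', MulAut.mul_apply, MulAut.mul_apply, hfix _ hy', apply_inv, hfix _ hy] at h
  have htM : M ⊓ neg (b * b) = ⊥ := by
    have hpres : ∀ a ∈ M, (b * b) a ∈ M := fun a ha => ⟨apply_mem_neg hNt ha.1, apply_mem_neg hct ha.2⟩
    rcases sub_plane hqo hexp ht (nd_neg hqo hexp ht.mem hMD hpres fun a _ => ht.apply_apply hqo hexp a)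
      inf_le_right with h | h
    · exact h
    rw [eq_bot_iff]
    intro x hx
    rw [Subgroup.mem_bot]
    have hbx : b x ∈ neg (b * b) := apply_mem_neg hbtc hx.2
    have h1 : b x = 1 := hsep _ (h.ge hbx).1 (hbM x hx.1).2
    exact b.injective (h1.trans (map_one b).symm)
  have htfix := fix_of_inf_neg hqo hexp (M := M) (g := b * b)
    (fun a ha => ⟨apply_mem_neg hNt ha.1, apply_mem_neg hct ha.2⟩) (fun a _ => ht.apply_apply hqo hexp a) htM
  rw [e] at ht'
  have hle : M ≤ neg (N * (b * b)) := fun x hx => mem_neg.mpr (by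
    rw [MulAut.mul_apply, htfix x hx]; exact hx.1)
  have hMeq := (sub_plane hqo hexp ht' hMD hle).resolve_left hM0
  refine hM0 ((Subgroup.eq_bot_iff_forall _).mpr fun x hx => ?_)
  have h1 : b x ∈ M := hMeq.ge (mem_neg.mpr (by
    rw [MulAut.mul_apply, ← MulAut.mul_apply A (b * b) b, ← hbtc.eq, MulAut.mul_apply A b, htfix x hx]
    exact (hbM x hx).1))
  exact b.injective ((hsep _ h1 (hbM x hx).2).trans (map_one b).symm)

set_option maxHeartbeats 1000000 in
/-- A change of the root inside a group of class two with central squares does not change the commutators. -/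
theorem comm_eq (C : Subgroup (MulAut A)) (hC : C ≤ F.isom)
    (hcen : ∀ x ∈ C, ∀ y ∈ C, ∀ z ∈ C, Commute ⁅x, y⁆ z) (hsq : ∀ x ∈ C, ∀ z ∈ C, Commute (x * x) z)
    {b W V c : MulAut A} (hb : b ∈ F.isom) (hbC : ∀ d ∈ C, b * d * b⁻¹ ∈ C) (hbC' : ∀ d ∈ C, b⁻¹ * d * b ∈ C)
    (hWC : W ∈ C) (hcC : c ∈ C) (htC : b * b ∈ C) (ht'C : W * b * (W * b) ∈ C) (ht : Refl F q (b * b))
    (ht' : Refl F q (W * b * (W * b))) (hVC : V ∈ C) (hVc : ∀ z ∈ C, Commute V z)
    (hV2 : W * W * V⁻¹ * (W * W * V⁻¹) = 1) (ht3 : Refl F q (W * V * b * (W * V * b)))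
    (hne : ⁅b * b, c⁆ ≠ 1) : ⁅W * b * (W * b), c⁆ = ⁅b * b, c⁆ := by
  set t := b * b with htdef
  set t' := W * b * (W * b) with ht'def
  set t'' := c * t * c⁻¹ with ht''def
  set a := ⁅t, c⁆ with hadef
  have et : t⁻¹ = t := ht.inv_eq hqo hexp
  have hbrC : ∀ x ∈ C, ∀ y ∈ C, ⁅x, y⁆ ∈ C := fun x hx y hy =>
    mul_mem (mul_mem (mul_mem hx hy) (inv_mem hx)) (inv_mem hy)
  have hL : ∀ x ∈ C, ∀ y ∈ C, ∀ z ∈ C, ⁅x * y, z⁆ = ⁅x, z⁆ * ⁅y, z⁆ := fun x hx y hy z hz => by
    rw [commutatorElement_mul_left_eq_conj_mul, ← ((hcen y hy z hz x hx)).eq, mul_inv_cancel_right,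
      (hcen y hy z hz _ (hbrC x hx z hz)).eq]
  have hself : ∀ x ∈ C, ∀ z ∈ C, ⁅x, z⁆ * ⁅x, z⁆ = 1 := fun x hx z hz => by
    rw [← hL x hx x hx z hz, commutatorElement_eq_one_iff_commute.mpr (hsq x hx z hz)]
  have haC : a ∈ C := hbrC t htC c hcC
  have hac : ∀ z ∈ C, Commute a z := hcen t htC c hcC
  have ha2 : a * a = 1 := hself t htC c hcC
  have ha : a = t * t'' := by rw [hadef, commutatorElement_def, et, ht''def]; group
  have ht''eq : t'' = t * a := by rw [ha, ← mul_assoc, ht.sq, one_mul]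
  have h1 : t ≠ 1 := fun e => hne (by rw [hadef, e, commutatorElement_one_left])
  have ht'' : Refl F q t'' := ht.conj (hC hcC)
  have hct : Commute t t'' := ht''eq ▸ (Commute.refl t).mul_right (hac t htC).symm
  have hne'' : t ≠ t'' := fun e => hne (by rw [ha, ← e, ht.sq])
  have h1'' : t'' ≠ 1 := fun e => h1 (by
    calc t = c⁻¹ * t'' * c := by rw [ht''def]; group
      _ = 1 := by rw [e]; group)
  obtain ⟨m₀, hm₀, hm₀1⟩ := ((neg t).bot_or_exists_ne_one).resolve_left (ht.neg_ne_bot hqo hexp h1)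
  have hfix : ∀ x ∈ neg t, t'' x = x := ht.dichotomy hqo hexp h1 ht'' hct hne''
  have hfix'' : ∀ x ∈ neg t'', t x = x := ht''.dichotomy hqo hexp h1'' ht hct.symm hne''.symm
  have haP : ∀ x ∈ neg t, a x = x⁻¹ := fun x hx => by rw [ha, MulAut.mul_apply, hfix x hx, mem_neg.mp hx]
  have hcP : ∀ x ∈ neg t, c x ∈ neg t'' := fun x hx => mem_neg_conj hx
  have hbt : Commute b t := htdef ▸ (Commute.refl b).mul_right (Commute.refl b)
  -- the root fixes the second plane
  set a'' := b * a * b⁻¹ with ha''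
  have ha''c : ∀ z ∈ C, Commute a'' z := fun z hz => by
    have h := Commute.map (hac _ (hbC' z hz)) (MulAut.conj b).toMonoidHom
    simpa [ha'', mul_assoc] using h
  have ha''P : ∀ x ∈ neg t, a'' x = x⁻¹ := fun x hx => by
    rw [ha'', MulAut.mul_apply, MulAut.mul_apply, haP _ (apply_mem_neg hbt.inv_left hx), map_inv, apply_inv]
  have ha''P'' : ∀ y ∈ neg t'', a'' y = y⁻¹ := fun y hy => by
    have hy0 : c⁻¹ y ∈ neg t := by
      have h := mem_neg_conj (g := c⁻¹) hy
      rwa [ht''def, show c⁻¹ * (c * t * c⁻¹) * c⁻¹⁻¹ = t by group] at h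
    conv_lhs => rw [← apply_inv c y, ← MulAut.mul_apply, (ha''c c hcC).eq, MulAut.mul_apply, ha''P _ hy0,
      map_inv, apply_inv]
  have hbt'' : Commute b t'' := by
    have e : b * t'' * b⁻¹ = t * a'' := by
      rw [ht''eq, ha'', show b * (t * a) * b⁻¹ = b * t * b⁻¹ * (b * a * b⁻¹) by group, hbt.eq,
        mul_inv_cancel_right]
    have hle : neg t'' ≤ neg (b * t'' * b⁻¹) := fun y hy => mem_neg.mpr (by
      rw [e, MulAut.mul_apply, ha''P'' y hy, map_inv, hfix'' y hy])
    have hcc : Commute t'' (b * t'' * b⁻¹) := by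
      rw [e, ht''eq]
      exact ((Commute.refl t).mul_right (ha''c t htC).symm).mul_left
        ((hac t htC).mul_right (hac a'' (hbC a haC)))
    have h := ht''.eq_of_neg_le hqo hexp h1'' (ht''.conj hb) hcc hle
    show b * t'' = t'' * b
    nth_rw 2 [h]
    rw [inv_mul_cancel_right]
  have hbs : Scal b (neg t'') := ht''.scal hqo hexp hb (fun _ hy => apply_mem_neg hbt'' hy) fun y hy => by
    rw [← MulAut.mul_apply]; exact hfix'' y hy
  -- the image of the first plane under `W`
  set tW := W * t * W⁻¹ with htW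
  have htWR : Refl F q tW := ht.conj (hC hWC)
  have htWC : tW ∈ C := mul_mem (mul_mem hWC htC) (inv_mem hWC)
  have htWt : Commute tW t := by
    have e : tW = ⁅W, t⁆ * t := by rw [htW]; simp only [commutatorElement_def]; group
    rw [e]
    exact (hcen W hWC t htC t htC).mul_left (Commute.refl t)
  have htW'' : Commute tW t'' := ht''eq ▸ htWt.mul_right (hac tW htWC).symm
  have hWtW : tW = t ∨ tW = t'' := by
    by_contra hcon
    rw [not_or] at hcon
    have h1W : tW ≠ 1 := fun e => h1 (by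
      calc t = W⁻¹ * tW * W := by rw [htW]; group
        _ = 1 := by rw [e]; group)
    have hy : W m₀ ∈ neg tW := mem_neg_conj hm₀
    have hay : a (W m₀) = W m₀ := by
      rw [ha, MulAut.mul_apply, htWR.dichotomy hqo hexp h1W ht'' htW'' hcon.2 _ hy,
        htWR.dichotomy hqo hexp h1W ht htWt hcon.1 _ hy]
    rw [← MulAut.mul_apply, (hac W hWC).eq, MulAut.mul_apply, haP _ hm₀] at hay
    exact hm₀1 (eq_one_of_inv hqo hexp (W.injective hay).symm)
  -- the second reflection commutes with both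
  have ht't : Commute t' t := by
    show t' * t = t * t'
    rw [ht'def]
    rcases hWtW with hw | hw
    · have hWt : Commute W t := by
        show W * t = t * W
        nth_rw 2 [← hw]
        rw [htW, inv_mul_cancel_right]
      exact (((hWt.mul_left hbt)).mul_left (hWt.mul_left hbt)).eq
    · have e1 : W * b * t = t'' * (W * b) := by
        rw [← hw, htW, mul_assoc W b t, hbt.eq]; group
      have e2 : W * b * t'' = t * (W * b) := by
        have : W * t'' = t * W := by
          rw [ht''eq, ← mul_assoc, show W * t = t'' * W by rw [← hw, htW]; group, mul_assoc, ← (hac W hWC).eq,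
            ← mul_assoc, ht''eq, mul_assoc t a a, ha2, mul_one]
        rw [mul_assoc W b t'', hbt''.eq, ← mul_assoc, this, mul_assoc]
      rw [mul_assoc (W * b) (W * b) t, e1, ← mul_assoc, e2, mul_assoc]
  have ht't'' : Commute t' t'' := ht''eq ▸ ht't.mul_right (hac t' ht'C).symm
  have hs := ht.scal hqo hexp ht'.mem (fun _ hx => apply_mem_neg ht't hx) fun x _ => ht'.apply_apply hqo hexp x
  have hs'' := ht''.scal hqo hexp ht'.mem (fun _ hx => apply_mem_neg ht't'' hx)
    fun x _ => ht'.apply_apply hqo hexp x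
  rcases hs with hs | hs
  swap
  · rw [← ht.eq_of_neg_le hqo hexp h1 ht' ht't.symm fun x hx => mem_neg.mpr (hs x hx)]
  rcases hs'' with hs'' | hs''
  swap
  · rw [← ht''.eq_of_neg_le hqo hexp h1'' ht' ht't''.symm fun x hx => mem_neg.mpr (hs'' x hx), ht''eq,
      hL t htC a haC c hcC, commutatorElement_eq_one_iff_commute.mpr (hac c hcC), mul_one]
  exfalso
  have hbP : ∀ x ∈ neg t, b⁻¹ x ∈ neg t := fun x hx => apply_mem_neg hbt.inv_left hx
  rcases hWtW with hw | hw
  · -- both planes preserved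
    have hWt : Commute W t := by
      show W * t = t * W
      nth_rw 2 [← hw]
      rw [htW, inv_mul_cancel_right]
    have hWt'' : Commute W t'' := ht''eq ▸ hWt.mul_right (hac W hWC).symm
    have hWs : Scal W (neg t'') := ht''.scal hqo hexp (hC hWC) (fun _ hy => apply_mem_neg hWt'' hy) fun y hy => by
      have h := hs'' y hy
      rw [ht'def, MulAut.mul_apply, MulAut.mul_apply, MulAut.mul_apply] at h
      rcases hbs with hbs | hbs
      · rwa [hbs y hy, hbs _ (apply_mem_neg hWt'' hy)] at h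
      · rwa [hbs y hy, map_inv, map_inv, hbs _ (apply_mem_neg hWt'' hy), inv_inv] at h
    have hWbs : Scal (W * b) (neg t) := ht.scal hqo hexp (mul_mem (hC hWC) hb)
      (fun _ hx => apply_mem_neg (hWt.mul_left hbt) hx) fun x hx => by
        rw [← MulAut.mul_apply]; exact hs x hx
    set z := ⁅W, c⁻¹⁆ with hz
    have e : ∀ x, z x = W (c⁻¹ (W⁻¹ (c x))) := fun x => by
      rw [hz, commutatorElement_def, inv_inv, MulAut.mul_apply, MulAut.mul_apply, MulAut.mul_apply]
    have hWx : (∀ x ∈ neg t, W x = b⁻¹ x) ∨ ∀ x ∈ neg t, W x = (b⁻¹ x)⁻¹ := by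
      rcases hWbs with h | h
      · exact Or.inl fun x hx => by
          have h2 := h _ (hbP x hx)
          rwa [MulAut.mul_apply, apply_inv] at h2
      · exact Or.inr fun x hx => by
          have h2 := h _ (hbP x hx)
          rwa [MulAut.mul_apply, apply_inv] at h2
    have hzP : (∀ x ∈ neg t, z x = b⁻¹ x) ∨ ∀ x ∈ neg t, z x = (b⁻¹ x)⁻¹ := by
      rcases hWs with hWs | hWs
      · have hzx : ∀ x ∈ neg t, z x = W x := fun x hx => by
          have h2 : W⁻¹ (c x) = c x := by conv_lhs => rw [← hWs _ (hcP x hx), inv_apply_self]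
          rw [e, h2, inv_apply_self]
        exact hWx.imp (fun h x hx => by rw [hzx x hx, h x hx]) fun h x hx => by rw [hzx x hx, h x hx]
      · have hzx : ∀ x ∈ neg t, z x = (W x)⁻¹ := fun x hx => by
          have h2 : W⁻¹ (c x) = (c x)⁻¹ := by
            conv_lhs => rw [← inv_inv (c x), ← hWs _ (hcP x hx), map_inv, inv_apply_self]
          rw [e, h2, map_inv, inv_apply_self, map_inv]
        exact hWx.symm.imp (fun h x hx => by rw [hzx x hx, h x hx, inv_inv])
          fun h x hx => by rw [hzx x hx, h x hx]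
    refine hm₀1 (eq_one_of_inv hqo hexp ?_)
    rw [← sq_apply_of_scal hqo hexp hb rfl ht hm₀ hzP, ← MulAut.mul_apply, hz,
      hself W hWC c⁻¹ (inv_mem hcC), MulAut.one_apply]
  · -- the planes exchanged
    have e1 : W * t = t'' * W := by rw [← hw, htW, inv_mul_cancel_right]
    have hWP : ∀ x ∈ neg t, W x ∈ neg t'' := fun x hx => by
      have h := mem_neg_conj (g := W) hx
      rwa [e1, mul_inv_cancel_right] at h
    have hWWt : Commute (W * W) t := hsq W hWC t htC
    have hWW : (∀ x ∈ neg t, (W * W) x = b⁻¹ x) ∨ ∀ x ∈ neg t, (W * W) x = (b⁻¹ x)⁻¹ := by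
      rcases hbs with hbs | hbs
      · refine Or.inl fun x hx => ?_
        have h := hs _ (hbP x hx)
        rw [ht'def, MulAut.mul_apply, MulAut.mul_apply A W b (b⁻¹ x), apply_inv, MulAut.mul_apply,
          hbs _ (hWP x hx)] at h
        exact h
      · refine Or.inr fun x hx => ?_
        have h := hs _ (hbP x hx)
        rw [ht'def, MulAut.mul_apply, MulAut.mul_apply A W b (b⁻¹ x), apply_inv, MulAut.mul_apply,
          hbs _ (hWP x hx), map_inv] at h
        rw [MulAut.mul_apply, ← inv_inv (W (W x)), h]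
    set ε := W * W * V⁻¹ with hε
    have hεC : ∀ z ∈ C, Commute ε z := fun z hz => (hsq W hWC z hz).mul_left (hVc z hz).inv_left
    have hεs : Scal ε (neg t) := ht.scal hqo hexp (hC (mul_mem (mul_mem hWC hWC) (inv_mem hVC)))
      (fun _ hx => apply_mem_neg (hεC t htC) hx) fun x _ => by rw [← MulAut.mul_apply, hV2, MulAut.one_apply]
    have hVeq : V = W * W * ε := by
      have e : ε * V = W * W := by rw [hε, inv_mul_cancel_right]
      calc V = ε * ε * V := by rw [hV2, one_mul]
        _ = ε * (W * W) := by rw [mul_assoc, e]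
        _ = _ := (hεC _ (mul_mem hWC hWC)).eq
    have hVx : (∀ x ∈ neg t, V x = b⁻¹ x) ∨ ∀ x ∈ neg t, V x = (b⁻¹ x)⁻¹ := by
      rcases hεs with hε' | hε' <;> rcases hWW with hWW | hWW
      · exact Or.inl fun x hx => by rw [hVeq, MulAut.mul_apply, hε' x hx, hWW x hx]
      · exact Or.inr fun x hx => by rw [hVeq, MulAut.mul_apply, hε' x hx, hWW x hx]
      · exact Or.inr fun x hx => by rw [hVeq, MulAut.mul_apply, hε' x hx, map_inv, hWW x hx]
      · exact Or.inl fun x hx => by rw [hVeq, MulAut.mul_apply, hε' x hx, map_inv, hWW x hx, inv_inv]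
    set V' := b * V * b⁻¹ with hV'
    have hV'c : ∀ z ∈ C, Commute V' z := fun z hz => by
      have h := Commute.map (hVc _ (hbC' z hz)) (MulAut.conj b).toMonoidHom
      simpa [hV', mul_assoc] using h
    have hV'x : ∀ x ∈ neg t, V' x = V x := fun x hx => by
      rw [hV', MulAut.mul_apply, MulAut.mul_apply]
      rcases hVx with h | h
      · rw [h _ (hbP x hx), h x hx, apply_inv]
      · rw [h _ (hbP x hx), h x hx, map_inv, apply_inv]
    have e3 : W * V * b * (W * V * b) = t' * (V * V') := by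
      have hWb : b * W * b⁻¹ ∈ C := hbC W hWC
      calc W * V * b * (W * V * b) = W * (V * (b * W * b⁻¹)) * (V' * t) := by rw [hV', htdef]; group
        _ = W * ((b * W * b⁻¹) * V) * (t * V') := by rw [(hVc _ hWb).eq, (hV'c t htC).eq]
        _ = W * (b * W * b⁻¹) * (V * t) * V' := by group
        _ = W * (b * W * b⁻¹) * (t * V) * V' := by rw [(hVc t htC).eq]
        _ = _ := by rw [ht'def, htdef]; group
    have hle : neg t ≤ neg (W * V * b * (W * V * b)) := fun x hx => mem_neg.mpr (by
      rw [e3, MulAut.mul_apply A t', MulAut.mul_apply A V V', hV'x x hx,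
        sq_apply_of_scal hqo hexp hb rfl ht hx hVx, map_inv, hs x hx])
    have heq := (sub_plane hqo hexp ht3 (ht.nd hqo hexp) hle).resolve_left (ht.neg_ne_bot hqo hexp h1)
    have hg : Commute (W * V * b) (W * V * b * (W * V * b)) :=
      (Commute.refl (W * V * b)).mul_right (Commute.refl _)
    have hy : (W * V * b) m₀ ∈ neg t := heq.ge (apply_mem_neg hg (heq.le hm₀))
    have hy'' : (W * V * b) m₀ ∈ neg t'' := by
      rw [MulAut.mul_apply, MulAut.mul_apply]
      exact hWP _ (apply_mem_neg (hVc t htC) (apply_mem_neg hbt hm₀))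
    refine hm₀1 ((W * V * b).injective ?_)
    rw [map_one]
    refine eq_one_of_inv hqo hexp ?_
    exact ((hfix'' _ hy'').symm.trans (mem_neg.mp hy))

end Cfsg.Agent.GenA.TwoLengthSharp
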